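import Groth.Prelude.Def_SGA3b
import Groth.Agent.HomLiftLib.TorsionLocal
import Mathlib.Topology.Spectral.ConstructibleTopology
import Mathlib.RingTheory.QuasiFinite.Basic
import Mathlib.RingTheory.Nakayama
import Mathlib.RingTheory.Artinian.Ring
import Mathlib.RingTheory.HopfAlgebra.Convolution
import Mathlib.Tactic.LinearCombination
import Mathlib.Tactic.Ring

set_option autoImplicit false

/-!
A commutative quasi-finite group of finite presentation is killed by a positive integer.
-/

noncomputable section

universe u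

open scoped TensorProduct
open WithConv

namespace Groth.Agent.MultFin

variable {R : Type u} [CommRing R] {C : Type u} [CommRing C] [HopfAlgebra R C]

theorem comp_powConv' {D : Type u} [CommRing D] [Algebra R D] (f : C →ₐ[R] D) (k : ℕ) :
    toConv (f.comp (SGA3b.powConv R C k)) = (toConv f) ^ k := by
  induction k with
  | zero =>
    rw [pow_zero, SGA3b.powConv, pow_zero, AlgHom.convOne_def, AlgHom.convOne_def, ofConv_toConv]
    congr 1
    exact AlgHom.ext fun a => f.commutes _
  | succ k IH =>
    rw [SGA3b.powConv, pow_succ, pow_succ, AlgHom.comp_convMul_distrib, ← SGA3b.powConv, IH, ofConv_toConv,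
      AlgHom.comp_id, toConv_ofConv]

theorem sum_mul_sub_mem {B : Type u} [CommRing B] [Algebra R B] (f g : C →ₐ[R] B) {J : Ideal B}
    (hf : ∀ i, Coalgebra.counit (R := R) i = 0 → f i ∈ J) (hg : ∀ i, Coalgebra.counit (R := R) i = 0 → g i ∈ J)
    {i : C} (hi : Coalgebra.counit (R := R) i = 0) :
    (toConv f * toConv g).ofConv i - f i - g i ∈ J * J := by
  have key : ∀ z : C ⊗[R] C, Algebra.TensorProduct.lift f g (fun _ _ => Commute.all _ _) z
      - f (Algebra.TensorProduct.lift (AlgHom.id R C) ((Algebra.ofId R C).comp (Bialgebra.counitAlgHom R C))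
          (fun _ _ => Commute.all _ _) z)
      - g (Algebra.TensorProduct.lift ((Algebra.ofId R C).comp (Bialgebra.counitAlgHom R C)) (AlgHom.id R C)
          (fun _ _ => Commute.all _ _) z)
      + algebraMap R B (Algebra.TensorProduct.lift (Bialgebra.counitAlgHom R C) (Bialgebra.counitAlgHom R C)
          (fun _ _ => Commute.all _ _) z) ∈ J * J := by
    intro z
    induction z using TensorProduct.induction_on with
    | zero => simp
    | add a b ha hb =>
      convert add_mem ha hb using 1
      simp only [map_add]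
      ring
    | tmul a b =>
      simp only [Algebra.TensorProduct.lift_tmul, AlgHom.comp_apply, AlgHom.id_apply, Algebra.ofId_apply, map_mul,
        AlgHom.commutes, Bialgebra.counitAlgHom_apply]
      have h1 := hf (a - algebraMap R C (Coalgebra.counit a)) (by simp)
      have h2 := hg (b - algebraMap R C (Coalgebra.counit b)) (by simp)
      rw [map_sub, AlgHom.commutes] at h1 h2
      convert Ideal.mul_mem_mul h1 h2 using 1
      ring
  have h := key (Coalgebra.comul i)
  have e1 : Algebra.TensorProduct.lift (AlgHom.id R C) ((Algebra.ofId R C).comp (Bialgebra.counitAlgHom R C))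
      (fun _ _ => Commute.all _ _) (Coalgebra.comul i) = i :=
    (AlgHom.convMul_apply (toConv (AlgHom.id R C)) 1 i).symm.trans (by rw [mul_one]; rfl)
  have e2 : Algebra.TensorProduct.lift ((Algebra.ofId R C).comp (Bialgebra.counitAlgHom R C)) (AlgHom.id R C)
      (fun _ _ => Commute.all _ _) (Coalgebra.comul i) = i :=
    (AlgHom.convMul_apply 1 (toConv (AlgHom.id R C)) i).symm.trans (by rw [one_mul]; rfl)
  have e3 : Algebra.TensorProduct.lift (Bialgebra.counitAlgHom R C) (Bialgebra.counitAlgHom R C)
      (fun _ _ => Commute.all _ _) (Coalgebra.comul i) = 0 := by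
    have h2 := congrArg (Bialgebra.counitAlgHom R C) e1
    rw [show Bialgebra.counitAlgHom R C i = 0 from hi, ← AlgHom.comp_apply] at h2
    refine Eq.trans ?_ h2
    congr 1
    exact Algebra.TensorProduct.ext (AlgHom.ext fun a => by simp) (AlgHom.ext fun a => by simp)
  rw [e1, e2, e3, map_zero, add_zero] at h
  rwa [AlgHom.convMul_apply]

theorem pow_sub_mem {B : Type u} [CommRing B] [Algebra R B] (f : C →ₐ[R] B) {J : Ideal B}
    (hf : ∀ i, Coalgebra.counit (R := R) i = 0 → f i ∈ J) (k : ℕ) {i : C} (hi : Coalgebra.counit (R := R) i = 0) :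
    ((toConv f) ^ k).ofConv i - (k : B) * f i ∈ J * J := by
  induction k generalizing i with
  | zero => simp [AlgHom.convOne_def, hi]
  | succ k ih =>
    have hk : ∀ j, Coalgebra.counit (R := R) j = 0 → ((toConv f) ^ k).ofConv j ∈ J := fun j hj => by
      have := add_mem (Ideal.mul_le_left (ih hj)) (Ideal.mul_mem_left J (k : B) (hf j hj))
      rwa [sub_add_cancel] at this
    have h := add_mem (sum_mul_sub_mem ((toConv f) ^ k).ofConv f hk hf hi) (ih hi)
    rw [toConv_ofConv, ← pow_succ] at h
    convert h using 1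
    push_cast
    ring

/-- A point congruent to the unit modulo a nilpotent ideal killed by an integer is torsion. -/
theorem exists_pow_eq_unit {B : Type u} [CommRing B] [Algebra R B] (f : C →ₐ[R] B) {J : Ideal B}
    (hJ : IsNilpotent J) {K : ℕ} (hK : 0 < K) (hKJ : ∀ x ∈ J, (K : B) * x = 0)
    (hf : ∀ i, Coalgebra.counit (R := R) i = 0 → f i ∈ J) :
    ∃ n, 0 < n ∧ ∀ i, Coalgebra.counit (R := R) i = 0 → ((toConv f) ^ n).ofConv i = 0 := by
  obtain ⟨L, hL⟩ := hJ
  have key : ∀ j : ℕ, ∀ i, Coalgebra.counit (R := R) i = 0 → ((toConv f) ^ K ^ j).ofConv i ∈ J ^ (2 ^ j) := by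
    intro j
    induction j with
    | zero => simpa using hf
    | succ j ih =>
      intro i hi
      have h := pow_sub_mem ((toConv f) ^ K ^ j).ofConv ih K hi
      rw [toConv_ofConv, ← pow_mul, ← pow_succ, hKJ _ (Ideal.pow_le_self (by positivity) (ih i hi)), sub_zero,
        ← pow_add, ← two_mul, ← pow_succ'] at h
      exact h
  refine ⟨K ^ L, pow_pos hK L, fun i hi => ?_⟩
  have := Ideal.pow_le_pow_right (Nat.lt_two_pow_self (n := L)).le (key L i hi)
  rw [hL] at this
  exact this

section CharZero

variable {k : Type u} [Field k] {A : Type u} [CommRing A] [HopfAlgebra k A]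

/-- In characteristic zero a finite group is reduced at the origin. -/
theorem augIdeal_le_sq [CharZero k] [Module.Finite k A] :
    RingHom.ker (Bialgebra.counitAlgHom k A) ≤
      RingHom.ker (Bialgebra.counitAlgHom k A) * RingHom.ker (Bialgebra.counitAlgHom k A) := by
  classical
  set ε := Bialgebra.counitAlgHom k A
  set I := RingHom.ker ε
  haveI : I.IsMaximal := RingHom.ker_isMaximal_of_surjective ε.toRingHom fun c => ⟨algebraMap k A c, by simp⟩
  haveI : IsArtinianRing A := IsArtinianRing.of_finite k A
  by_contra hne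
  obtain ⟨x, hxI, hx⟩ := SetLike.not_le_iff_exists.1 hne
  obtain ⟨δ, hδx, hδ⟩ := Submodule.exists_le_ker_of_notMem (p := (I * I).restrictScalars k) hx
  let pr : A →ₗ[k] A := LinearMap.id - (Algebra.linearMap k A) ∘ₗ ε.toLinearMap
  let δ' : A →ₗ[k] k := (δ x)⁻¹ • (δ ∘ₗ pr)
  have hεx : ε x = 0 := hxI
  have hδ'x : δ' x = 1 := by simp [δ', pr, hεx, hδx]
  have hder : ∀ a b, δ' (a * b) = ε a * δ' b + ε b * δ' a := by
    intro a b
    have hmem : (a - algebraMap k A (ε a)) * (b - algebraMap k A (ε b)) ∈ I * I :=
      Ideal.mul_mem_mul (by simp [I, RingHom.mem_ker]) (by simp [I, RingHom.mem_ker])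
    have h0 : δ ((a - algebraMap k A (ε a)) * (b - algebraMap k A (ε b))) = 0 := hδ hmem
    have e : pr (a * b) = (a - algebraMap k A (ε a)) * (b - algebraMap k A (ε b)) + ε a • pr b + ε b • pr a := by
      simp only [pr, LinearMap.sub_apply, LinearMap.id_apply, LinearMap.comp_apply, AlgHom.toLinearMap_apply,
        Algebra.linearMap_apply, map_mul, Algebra.smul_def]
      ring
    simp only [δ', LinearMap.smul_apply, LinearMap.comp_apply, e, map_add, map_smul, h0, zero_add, smul_eq_mul]
    ring
  let L : A ⊗[k] A →ₗ[k] A := TensorProduct.lift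
    (LinearMap.mk₂ k (fun a b => δ' b • a) (fun a a' b => smul_add _ _ _) (fun c a b => smul_comm _ _ _)
      (fun a b b' => by rw [map_add, add_smul]) (fun c a b => by rw [map_smul, smul_eq_mul, mul_smul]))
  let E : A ⊗[k] A →ₐ[k] A := Algebra.TensorProduct.lift (AlgHom.id k A) ((Algebra.ofId k A).comp ε)
    fun _ _ => Commute.all _ _
  have hL : ∀ p q, L (p * q) = E p * L q + E q * L p := by
    intro p q
    induction p using TensorProduct.induction_on with
    | zero => simp
    | add a b ha hb => simp only [add_mul, map_add, ha, hb]; ring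
    | tmul a b =>
      induction q using TensorProduct.induction_on with
      | zero => simp
      | add c d hc hd => simp only [mul_add, map_add, hc, hd]; ring
      | tmul c d =>
        simp only [Algebra.TensorProduct.tmul_mul_tmul, L, E, TensorProduct.lift.tmul, LinearMap.mk₂_apply,
          Algebra.TensorProduct.lift_tmul, AlgHom.id_apply, AlgHom.comp_apply, Algebra.ofId_apply, hder,
          Algebra.smul_def, map_add, map_mul]
        ring
  have hE : ∀ a, E (Coalgebra.comul a) = a := fun a =>
    (AlgHom.convMul_apply (toConv (AlgHom.id k A)) 1 a).symm.trans (by rw [mul_one]; rfl)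
  let D : A → A := fun a => L (Coalgebra.comul a)
  have hD : ∀ a b, D (a * b) = a * D b + b * D a := fun a b => by
    show L (Coalgebra.comul (a * b)) = _
    rw [Bialgebra.comul_mul, hL, hE, hE]
  have hεD : ∀ a, ε (D a) = δ' a := by
    intro a
    have key : ∀ z : A ⊗[k] A, ε (L z) = δ' (TensorProduct.lid k A (TensorProduct.map Coalgebra.counit LinearMap.id z)) := by
      intro z
      induction z using TensorProduct.induction_on with
      | zero => simp
      | add p q hp hq => simp only [map_add, hp, hq]
      | tmul p q => simp [L, ε, mul_comm]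
    show ε (L (Coalgebra.comul a)) = _
    rw [key, show TensorProduct.map Coalgebra.counit LinearMap.id (Coalgebra.comul a) = (1 : k) ⊗ₜ[k] a from
      Coalgebra.rTensor_counit_comul a, TensorProduct.lid_tmul, one_smul]
  have hDx : D x ∉ I := fun h => one_ne_zero (by rw [← hδ'x, ← hεD]; exact h)
  have hD0 : D 0 = 0 := by simp [D]
  have hpow : ∀ n : ℕ, D (x ^ (n + 1)) = (n + 1 : ℕ) * x ^ n * D x := by
    intro n
    induction n with
    | zero => simp
    | succ n ih =>
      rw [pow_succ' x (n + 1), hD, ih]
      push_cast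
      ring
  have hno : ∀ n, ∀ s ∉ I, s * x ^ n ≠ 0 := by
    intro n
    induction n with
    | zero =>
      intro s hs h
      rw [pow_zero, mul_one] at h
      exact hs (h ▸ I.zero_mem)
    | succ n ih =>
      intro s hs h
      have h0 : s * D (x ^ (n + 1)) + x ^ (n + 1) * D s = 0 := by rw [← hD, h, hD0]
      rw [hpow] at h0
      refine ih ((n + 1 : ℕ) * (s * s * D x)) (fun hm => ?_) ?_
      · have h1 : ((n + 1 : ℕ) : A) ∉ I := fun hc => by
          have : ε ((n + 1 : ℕ) : A) = 0 := hc
          rw [map_natCast] at this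
          exact Nat.cast_ne_zero.2 (Nat.succ_ne_zero n) this
        exact (Ideal.IsMaximal.isPrime ‹I.IsMaximal›).mul_notMem h1
          ((Ideal.IsMaximal.isPrime ‹I.IsMaximal›).mul_notMem
            ((Ideal.IsMaximal.isPrime ‹I.IsMaximal›).mul_notMem hs hs) hDx) hm
      · linear_combination s * h0 - D s * h
  have hnil : IsNilpotent (algebraMap A (Localization.AtPrime I) x) := by
    rw [nilpotent_iff_mem_prime]
    intro P hP
    have hle : P.comap (algebraMap A (Localization.AtPrime I)) ≤ I := fun a ha => by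
      by_contra haI
      exact hP.ne_top (Ideal.eq_top_of_isUnit_mem _ ha
        (IsLocalization.map_units (Localization.AtPrime I) (⟨a, haI⟩ : I.primeCompl)))
    haveI : (P.comap (algebraMap A (Localization.AtPrime I))).IsPrime := Ideal.IsPrime.comap _
    have heq := (IsArtinianRing.isMaximal_of_isPrime (P.comap (algebraMap A (Localization.AtPrime I)))).eq_of_le ‹I.IsMaximal›.ne_top hle
    exact Ideal.mem_comap.1 ((SetLike.ext_iff.1 heq x).2 hxI)
  obtain ⟨n, hn⟩ := hnil
  rw [← map_pow] at hn
  obtain ⟨⟨s, hs⟩, hsx⟩ := (IsLocalization.map_eq_zero_iff I.primeCompl _ _).1 hn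
  exact hno n s hs hsx

end CharZero

/-- Uniform vanishing on points. -/
theorem exists_powConv_mem_nilradical [Coalgebra.IsCocomm R C] [Algebra.FiniteType R C] [Algebra.QuasiFinite R C] :
    ∃ n, 0 < n ∧ ∀ i, Coalgebra.counit (R := R) i = 0 → SGA3b.powConv R C n i ∈ nilradical C := by
  classical
  obtain ⟨G, hG⟩ := ‹Algebra.FiniteType R C›.out
  let I := RingHom.ker (Bialgebra.counitAlgHom R C)
  have hIfg : I = Ideal.span (↑(G.image fun b => b - algebraMap R C (Coalgebra.counit b)) : Set C) := by
    refine le_antisymm (fun b hb => ?_) (Ideal.span_le.2 ?_)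
    · set Is := Ideal.span (↑(G.image fun b => b - algebraMap R C (Coalgebra.counit b)) : Set C)
      have key : (Ideal.Quotient.mkₐ R Is) = (Algebra.ofId R (C ⧸ Is)).comp (Bialgebra.counitAlgHom R C) := by
        refine AlgHom.ext_of_adjoin_eq_top hG fun x hx => ?_
        show Ideal.Quotient.mk Is x = Ideal.Quotient.mk Is (algebraMap R C (Coalgebra.counit x))
        exact Ideal.Quotient.eq.2 (Ideal.subset_span (Finset.mem_image_of_mem _ hx))
      have := DFunLike.congr_fun key b
      rw [AlgHom.comp_apply, show Bialgebra.counitAlgHom R C b = 0 from hb, map_zero] at this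
      exact Ideal.Quotient.eq_zero_iff_mem.1 this
    · intro x hx
      obtain ⟨y, -, rfl⟩ := Finset.mem_image.1 hx
      simp [I, RingHom.mem_ker]
  let J : ℕ → Ideal C := fun n => I.map (SGA3b.powConv R C n)
  have hJfg : ∀ n, (J n).FG := fun n => by
    simp only [J]
    exact Ideal.FG.map ⟨_, hIfg.symm⟩ _
  have hpt : ∀ P : PrimeSpectrum C, ∃ n, 0 < n ∧ J n ≤ P.asIdeal := by
    intro P
    let p := P.asIdeal.comap (algebraMap R C)
    let K := P.asIdeal.ResidueField
    let f : p.ResidueField →ₐ[R] K := Ideal.ResidueField.mapₐ p P.asIdeal (Algebra.ofId R C) rfl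
    letI : Algebra p.ResidueField K := f.toRingHom.toAlgebra
    haveI : IsScalarTower R p.ResidueField K := IsScalarTower.of_algebraMap_eq fun r => (f.commutes r).symm
    haveI : Module.Finite p.ResidueField (p.Fiber C) := inferInstance
    haveI : Finite (p.Fiber C →ₐ[p.ResidueField] K) := inferInstance
    let toFib : (C →ₐ[R] K) → (p.Fiber C →ₐ[p.ResidueField] K) := fun x =>
      Algebra.TensorProduct.lift (Algebra.ofId _ _) x fun _ _ => Commute.all _ _
    have hinj : Function.Injective toFib := fun x y h => AlgHom.ext fun c => by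
      simpa [toFib] using DFunLike.congr_fun h ((1 : p.ResidueField) ⊗ₜ[R] c)
    haveI : Finite (C →ₐ[R] K) := Finite.of_injective toFib hinj
    haveI : Finite (WithConv (C →ₐ[R] K)) := Finite.of_equiv _ (WithConv.equiv _).symm
    let x : WithConv (C →ₐ[R] K) := toConv (IsScalarTower.toAlgHom R C K)
    obtain ⟨i, j, hij, hne⟩ := Finite.exists_ne_map_eq_of_infinite fun i : ℕ => x ^ i
    wlog hlt : i < j generalizing i j
    · exact this j i (Ne.symm hij) hne.symm (lt_of_le_of_ne (not_lt.1 hlt) (Ne.symm hij))
    have hu : IsUnit x := by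
      refine IsUnit.of_mul_eq_one (toConv (x.ofConv.comp (HopfAlgebra.antipodeAlgHom R C))) ?_
      rw [mul_comm]
      have h := AlgHom.comp_convMul_distrib x.ofConv (toConv (HopfAlgebra.antipodeAlgHom R C)) (toConv (AlgHom.id R C))
      rw [AlgHom.antipode_id_cancel] at h
      apply WithConv.ofConv_injective
      simp only [ofConv_toConv, AlgHom.comp_id, toConv_ofConv] at h
      rw [← h]
      apply AlgHom.ext
      intro c
      simp [AlgHom.convOne_def]
    have h1 : x ^ (j - i) = 1 := by
      refine (hu.pow i).mul_left_cancel ?_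
      rw [mul_one, ← pow_add, Nat.add_sub_cancel' hlt.le]
      exact hne.symm
    refine ⟨j - i, Nat.sub_pos_of_lt hlt, ?_⟩
    rw [Ideal.map_le_iff_le_comap]
    intro c hc
    rw [Ideal.mem_comap, ← Ideal.algebraMap_residueField_eq_zero]
    have h2 := DFunLike.congr_fun (congrArg WithConv.ofConv ((comp_powConv' x.ofConv (j - i)).trans h1)) c
    refine h2.trans ?_
    simp [AlgHom.convOne_def, show Coalgebra.counit (R := R) c = 0 from hc]
  have hmono : ∀ {m n}, m ∣ n → J n ≤ J m := by
    rintro m n ⟨d, rfl⟩
    rw [Ideal.map_le_iff_le_comap]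
    intro c hc
    show SGA3b.powConv R C (m * d) c ∈ J m
    have e : (SGA3b.powConv R C (m * d)) = (SGA3b.powConv R C m).comp (SGA3b.powConv R C d) := by
      apply WithConv.toConv_injective
      rw [comp_powConv', SGA3b.powConv, SGA3b.powConv, toConv_ofConv, toConv_ofConv, pow_mul]
    rw [e, AlgHom.comp_apply]
    refine Ideal.mem_map_of_mem _ ?_
    show Coalgebra.counit (R := R) (SGA3b.powConv R C d c) = 0
    have h2 := DFunLike.congr_fun (congrArg WithConv.ofConv (comp_powConv' (Bialgebra.counitAlgHom R C) d)) c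
    refine h2.trans ?_
    have h3 : toConv (Bialgebra.counitAlgHom R C) = (1 : WithConv (C →ₐ[R] R)) := by
      apply WithConv.ofConv_injective
      apply AlgHom.ext
      intro c
      simp [AlgHom.convOne_def]
    rw [h3, one_pow]
    simp [AlgHom.convOne_def, show Coalgebra.counit (R := R) c = 0 from hc]
  let X := WithConstructibleTopology (PrimeSpectrum C)
  let U : {n : ℕ // 0 < n} → Set X := fun n => {z | J n.1 ≤ (WithTopology.ofTopology z : PrimeSpectrum C).asIdeal}
  have hopen : ∀ n, IsOpen (U n) := fun n => by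
    rw [WithConstructibleTopology.isOpen_iff]
    have hc : IsCompact (PrimeSpectrum.zeroLocus (J n.1 : Set C))ᶜ :=
      (PrimeSpectrum.isCompact_isOpen_iff_ideal.2 ⟨J n.1, hJfg _, rfl⟩).1
    exact hc.isOpen_constructibleTopology_of_isClosed (PrimeSpectrum.isClosed_zeroLocus _)
  obtain ⟨t, ht⟩ := isCompact_univ.elim_finite_subcover U hopen fun z _ => by
    obtain ⟨n, hn, hle⟩ := hpt (WithTopology.ofTopology z)
    exact Set.mem_iUnion.2 ⟨⟨n, hn⟩, hle⟩
  refine ⟨∏ n ∈ t, n.1, Finset.prod_pos fun n _ => n.2, fun i hi => ?_⟩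
  rw [mem_nilradical, nilpotent_iff_mem_prime]
  intro P hP
  obtain ⟨n, hn, hle⟩ := Set.mem_iUnion₂.1 (ht (Set.mem_univ (WithTopology.toTopology _ (⟨P, hP⟩ : PrimeSpectrum C))))
  exact hle (hmono (Finset.dvd_prod_of_mem (fun n : {n : ℕ // 0 < n} => n.1) hn) (Ideal.mem_map_of_mem _ hi))

/-- Over a local ring with residue field of characteristic zero the nilpotent part is trivial. -/
theorem eq_zero_of_fibre_charZero [IsLocalRing R] [CharZero (IsLocalRing.ResidueField R)] [Algebra.FiniteType R C]
    [Module.Finite (IsLocalRing.ResidueField R) (IsLocalRing.ResidueField R ⊗[R] C)]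
    (φ : C →ₐ[R] C) (hφ : ∀ i, Coalgebra.counit (R := R) i = 0 → IsNilpotent (φ i))
    {i : C} (hi : Coalgebra.counit (R := R) i = 0) : φ i = 0 := by
  classical
  let k := IsLocalRing.ResidueField R
  set ε := Bialgebra.counitAlgHom R C
  set I : Ideal C := RingHom.ker ε
  set 𝔫 : Ideal C := (IsLocalRing.maximalIdeal R).map (algebraMap R C)
  have hε𝔫 : ∀ b ∈ 𝔫, ε b ∈ IsLocalRing.maximalIdeal R := fun b hb =>
    (Ideal.map_le_iff_le_comap.2 fun r hr => by simpa using hr :
      𝔫 ≤ (IsLocalRing.maximalIdeal R).comap ε) hb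
  have hinter : ∀ b ∈ 𝔫, b - algebraMap R C (ε b) ∈ 𝔫 * I := by
    intro b hb
    induction hb using Submodule.span_induction with
    | mem x hx =>
      obtain ⟨r, hr, rfl⟩ := hx
      simp
    | zero => simp
    | add x y _ _ hx hy =>
      rw [map_add, map_add, add_sub_add_comm]
      exact add_mem hx hy
    | smul c x hx ih =>
      have e : c • x - algebraMap R C (ε (c • x)) =
          algebraMap R C (ε c) * (x - algebraMap R C (ε x)) + x * (c - algebraMap R C (ε c)) := by
        simp only [smul_eq_mul, map_mul]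
        ring
      rw [e]
      refine add_mem (Ideal.mul_mem_left _ _ ih) (Ideal.mul_mem_mul hx ?_)
      simp [I, RingHom.mem_ker]
  let q : C →ₐ[R] k ⊗[R] C := Algebra.TensorProduct.includeRight
  have hq : Function.Surjective q := fun z => by
    induction z using TensorProduct.induction_on with
    | zero => exact ⟨0, map_zero _⟩
    | add a b ha hb =>
      obtain ⟨a, rfl⟩ := ha
      obtain ⟨b, rfl⟩ := hb
      exact ⟨a + b, map_add _ _ _⟩
    | tmul s c =>
      obtain ⟨r, rfl⟩ := IsLocalRing.residue_surjective s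
      exact ⟨r • c, by
        show (1 : k) ⊗ₜ[R] (r • c) = _
        rw [TensorProduct.tmul_smul, TensorProduct.smul_tmul', ← Algebra.algebraMap_eq_smul_one]
        rfl⟩
  have hqI : RingHom.ker (Bialgebra.counitAlgHom k (k ⊗[R] C)) = I.map q := by
    refine le_antisymm (fun z hz => ?_) (Ideal.map_le_iff_le_comap.2 fun c hc => ?_)
    · obtain ⟨c, rfl⟩ := hq z
      have h1 : ε c ∈ IsLocalRing.maximalIdeal R := by
        rw [← IsLocalRing.residue_eq_zero_iff]
        have : Coalgebra.counit (R := k) ((1 : k) ⊗ₜ[R] c) = 0 := hz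
        rwa [TensorProduct.counit_tmul, CommSemiring.counit_apply, ← Algebra.algebraMap_eq_smul_one] at this
      rw [show c = (c - algebraMap R C (ε c)) + algebraMap R C (ε c) by ring, map_add, AlgHom.commutes,
        IsScalarTower.algebraMap_apply R k (k ⊗[R] C), show algebraMap R k (ε c) = 0 from
          (IsLocalRing.residue_eq_zero_iff _).2 h1, map_zero, add_zero]
      exact Ideal.mem_map_of_mem _ (by simp [I, RingHom.mem_ker])
    · show Coalgebra.counit (R := k) ((1 : k) ⊗ₜ[R] c) = 0
      rw [TensorProduct.counit_tmul, show Coalgebra.counit (R := R) c = 0 from hc, zero_smul]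
  have hle : I ≤ (𝔫 + I) • I := by
    intro x hx
    have h1 : q x ∈ (I * I).map q := by
      rw [Ideal.map_mul, ← hqI]
      exact augIdeal_le_sq (by rw [hqI]; exact Ideal.mem_map_of_mem _ hx)
    obtain ⟨y, hy, hxy⟩ := (Ideal.mem_map_iff_of_surjective q hq).1 h1
    have h2 : x - y ∈ 𝔫 := by
      have h0 : (1 : R ⧸ IsLocalRing.maximalIdeal R) ⊗ₜ[R] (x - y) = 0 := by
        show q (x - y) = 0
        rw [map_sub, hxy, sub_self]
      have e := congrArg (TensorProduct.quotTensorEquivQuotSMul C (IsLocalRing.maximalIdeal R)) h0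
      rw [map_zero, show (1 : R ⧸ IsLocalRing.maximalIdeal R) = Ideal.Quotient.mk _ 1 from rfl,
        TensorProduct.quotTensorEquivQuotSMul_mk_tmul, one_smul, Submodule.Quotient.mk_eq_zero, Ideal.smul_top_eq_map] at e
      exact e
    have h3 : ε (x - y) = 0 := by
      rw [map_sub, show ε x = 0 from hx, show ε y = 0 from Ideal.mul_le_left hy, sub_zero]
    have h4 := hinter _ h2
    rw [h3, map_zero, sub_zero] at h4
    rw [smul_eq_mul, Submodule.add_eq_sup, Ideal.sup_mul, show x = (x - y) + y by ring]
    exact add_mem (Ideal.mem_sup_left h4) (Ideal.mem_sup_right hy)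
  have hfg : I.FG := by
    obtain ⟨s, hs⟩ := ‹Algebra.FiniteType R C›.out
    refine ⟨s.image fun b => b - algebraMap R C (ε b), le_antisymm (Ideal.span_le.2 ?_) fun b hb => ?_⟩
    · intro x hx
      obtain ⟨y, -, rfl⟩ := Finset.mem_image.1 hx
      simp [I, RingHom.mem_ker]
    · set Is := Ideal.span (↑(s.image fun b => b - algebraMap R C (ε b)) : Set C)
      have key : (Ideal.Quotient.mkₐ R Is) = (Algebra.ofId R (C ⧸ Is)).comp ε := by
        refine AlgHom.ext_of_adjoin_eq_top hs fun x hx => ?_
        show Ideal.Quotient.mk Is x = Ideal.Quotient.mk Is (algebraMap R C (ε x))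
        exact Ideal.Quotient.eq.2 (Ideal.subset_span (Finset.mem_image_of_mem _ hx))
      have := DFunLike.congr_fun key b
      rw [AlgHom.comp_apply, show ε b = 0 from hb, map_zero] at this
      exact Ideal.Quotient.eq_zero_iff_mem.1 this
  obtain ⟨r, hr, hri⟩ := Submodule.exists_mem_and_smul_eq_self_of_fg_of_le_smul (𝔫 + I) I hfg hle
  have hrm : ε r ∈ IsLocalRing.maximalIdeal R := by
    obtain ⟨a, ha, b, hb, rfl⟩ := Submodule.mem_sup.1 hr
    rw [map_add, show ε b = 0 from hb, add_zero]
    exact hε𝔫 a ha
  have hu : IsUnit (1 - φ r) := by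
    have h1 : IsUnit (algebraMap R C (1 - ε r)) :=
      (IsLocalRing.isUnit_one_sub_self_of_mem_nonunits _ hrm).map _
    have e : 1 - φ r = -(φ (r - algebraMap R C (ε r))) + algebraMap R C (1 - ε r) := by
      rw [map_sub, map_sub, AlgHom.commutes, map_one]
      ring
    rw [e]
    exact IsNilpotent.isUnit_add_right_of_commute (hφ _ (by simp [ε])).neg h1 (Commute.all _ _)
  have h := congrArg φ (hri i hi)
  rw [smul_eq_mul, map_mul] at h
  have h0 : (1 - φ r) * φ i = 0 := by linear_combination -h
  exact hu.mul_right_eq_zero.1 h0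

theorem exists_powConv_eq_counit [Coalgebra.IsCocomm R C] [Algebra.FiniteType R C] [Algebra.QuasiFinite R C] :
    ∃ n : ℕ, 0 < n ∧ ∀ c : C, SGA3b.powConv R C n c = algebraMap R C (Coalgebra.counit c) := by
  classical
  obtain ⟨n₀, hn₀, hnil⟩ := exists_powConv_mem_nilradical (R := R) (C := C)
  let φ := SGA3b.powConv R C n₀
  let I := RingHom.ker (Bialgebra.counitAlgHom R C)
  let J := I.map φ
  have hJle : J ≤ nilradical C := Ideal.map_le_iff_le_comap.2 fun i hi => hnil i hi
  have hIfg : I.FG := by
    obtain ⟨s, hs⟩ := ‹Algebra.FiniteType R C›.out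
    refine ⟨s.image fun b => b - algebraMap R C (Coalgebra.counit b), le_antisymm (Ideal.span_le.2 ?_) fun b hb => ?_⟩
    · intro x hx
      obtain ⟨y, -, rfl⟩ := Finset.mem_image.1 hx
      simp [I, RingHom.mem_ker]
    · set Is := Ideal.span (↑(s.image fun b => b - algebraMap R C (Coalgebra.counit b)) : Set C)
      have key : (Ideal.Quotient.mkₐ R Is) = (Algebra.ofId R (C ⧸ Is)).comp (Bialgebra.counitAlgHom R C) := by
        refine AlgHom.ext_of_adjoin_eq_top hs fun x hx => ?_
        show Ideal.Quotient.mk Is x = Ideal.Quotient.mk Is (algebraMap R C (Coalgebra.counit x))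
        exact Ideal.Quotient.eq.2 (Ideal.subset_span (Finset.mem_image_of_mem _ hx))
      have := DFunLike.congr_fun key b
      rw [AlgHom.comp_apply, show Bialgebra.counitAlgHom R C b = 0 from hb, map_zero] at this
      exact Ideal.Quotient.eq_zero_iff_mem.1 this
  obtain ⟨s, hs⟩ := Ideal.FG.map hIfg (φ : C →+* C)
  have hJnil : IsNilpotent J := (Ideal.FG.isNilpotent_iff_le_nilradical ⟨s, hs⟩).2 hJle
  -- the annihilator of `J` meets `ℕ`
  obtain ⟨K, hK, hKJ⟩ : ∃ K : ℕ, 0 < K ∧ ∀ x ∈ J, (K : C) * x = 0 := by
    let 𝔞 := J.annihilator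
    by_contra hne
    push Not at hne
    let N : Submonoid C :=
      { carrier := {x | ∃ K : ℕ, 0 < K ∧ x = K}
        one_mem' := ⟨1, one_pos, Nat.cast_one.symm⟩
        mul_mem' := by
          rintro _ _ ⟨a, ha, rfl⟩ ⟨b, hb, rfl⟩
          exact ⟨a * b, Nat.mul_pos ha hb, (Nat.cast_mul a b).symm⟩ }
    have hdisj : Disjoint (𝔞 : Set C) (N : Set C) := Set.disjoint_left.2 fun x hx hxN => by
      obtain ⟨K, hK, rfl⟩ := hxN
      obtain ⟨x, hx', hne'⟩ := hne K hK
      exact hne' (Submodule.mem_annihilator.1 hx x hx')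
    obtain ⟨P, hP, hle, hPN⟩ := Ideal.exists_le_prime_disjoint 𝔞 N hdisj
    haveI := hP
    let p := P.comap (algebraMap R C)
    let T := Localization.AtPrime p
    haveI : CharZero (IsLocalRing.ResidueField T) := by
      refine charZero_of_inj_zero fun n hn => ?_
      by_contra hn0
      have h1 : algebraMap R p.ResidueField (n : R) = 0 := by rw [map_natCast]; exact hn
      rw [Ideal.algebraMap_residueField_eq_zero, Ideal.mem_comap, map_natCast] at h1
      exact Set.disjoint_left.1 hPN h1 ⟨n, Nat.pos_of_ne_zero hn0, rfl⟩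
    let k := IsLocalRing.ResidueField T
    haveI : Module.Finite k (k ⊗[R] C) := inferInstanceAs (Module.Finite p.ResidueField (p.Fiber C))
    haveI : Module.Finite k (k ⊗[T] (T ⊗[R] C)) :=
      Module.Finite.equiv (TensorProduct.AlgebraTensorModule.cancelBaseChange R T k k C).symm
    let φ' := SGA3b.powConv T (T ⊗[R] C) n₀
    have hφ' : ∀ z, Coalgebra.counit (R := T) z = 0 → IsNilpotent (φ' z) := by
      intro z hz
      have key : ∀ w : T ⊗[R] C, φ' (w - algebraMap T (T ⊗[R] C) (Coalgebra.counit w)) ∈ nilradical (T ⊗[R] C) := by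
        intro w
        induction w using TensorProduct.induction_on with
        | zero => simp
        | add a b ha hb =>
          rw [map_add, map_add, add_sub_add_comm, map_add]
          exact add_mem ha hb
        | tmul t c =>
          have e : t ⊗ₜ[R] c - algebraMap T (T ⊗[R] C) (Coalgebra.counit (R := T) (t ⊗ₜ[R] c)) =
              algebraMap T (T ⊗[R] C) t * ((1 : T) ⊗ₜ[R] (c - algebraMap R C (Coalgebra.counit c))) := by
            rw [TensorProduct.counit_tmul, Algebra.TensorProduct.algebraMap_apply, Algebra.TensorProduct.algebraMap_apply,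
              Algebra.algebraMap_self, RingHom.id_apply, RingHom.id_apply, TensorProduct.tmul_sub, mul_sub,
              Algebra.TensorProduct.tmul_mul_tmul, Algebra.TensorProduct.tmul_mul_tmul, mul_one, one_mul, one_mul,
              Algebra.algebraMap_eq_smul_one (R := R) (A := C), TensorProduct.tmul_smul, TensorProduct.smul_tmul']
            simp
          rw [e, map_mul]
          refine Ideal.mul_mem_left _ _ ?_
          rw [HomLift.includeRight_powConv]
          exact (mem_nilradical.1 (hnil _ (by simp))).map (Algebra.TensorProduct.includeRight : C →ₐ[R] T ⊗[R] C)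
      have := key z
      rw [hz, map_zero, sub_zero] at this
      exact this
    have hkill : ∀ y ∈ s, ∃ r ∈ p.primeCompl, r • y = 0 := by
      intro y hy
      have hle : J ≤ RingHom.ker (Algebra.TensorProduct.includeRight : C →ₐ[R] T ⊗[R] C) := by
        rw [Ideal.map_le_iff_le_comap]
        intro i hi
        show (1 : T) ⊗ₜ[R] φ i = 0
        rw [← HomLift.includeRight_powConv]
        exact eq_zero_of_fibre_charZero φ' hφ'
          (by rw [TensorProduct.counit_tmul, show Coalgebra.counit (R := R) i = 0 from hi, zero_smul])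
      have h1 : TensorProduct.mk R T C 1 y = 0 := hle (hs.le (Ideal.subset_span hy))
      haveI : IsLocalizedModule p.primeCompl (TensorProduct.mk R T C 1) :=
        (isLocalizedModule_iff_isBaseChange p.primeCompl T _).2 (TensorProduct.isBaseChange R C T)
      obtain ⟨r, hr⟩ := (IsLocalizedModule.eq_zero_iff p.primeCompl (TensorProduct.mk R T C 1)).1 h1
      exact ⟨r.1, r.2, hr⟩
    choose r hr hry using hkill
    have hmem : algebraMap R C (∏ y ∈ s.attach, r y.1 y.2) ∈ 𝔞 := by
      rw [Submodule.mem_annihilator, show J = Ideal.span (s : Set C) from hs.symm]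
      intro x hx
      induction hx using Submodule.span_induction with
      | mem y hy =>
        obtain ⟨d, hd⟩ := Finset.dvd_prod_of_mem (fun y : {y // y ∈ s} => r y.1 y.2) (Finset.mem_attach s ⟨y, hy⟩)
        rw [hd, map_mul, smul_eq_mul, mul_right_comm, ← Algebra.smul_def, hry, zero_mul]
      | zero => simp
      | add a b _ _ ha hb => rw [smul_add, ha, hb, add_zero]
      | smul c a _ ha => rw [smul_comm, ha, smul_zero]
    have : (∏ y ∈ s.attach, r y.1 y.2) ∈ p := hle hmem
    obtain ⟨y, -, hy⟩ := (hP.comap (algebraMap R C)).prod_mem_iff.1 this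
    exact hr y.1 y.2 hy
  obtain ⟨n₁, hn₁, h₁⟩ := exists_pow_eq_unit φ hJnil hK hKJ fun i hi => Ideal.mem_map_of_mem _ hi
  refine ⟨n₀ * n₁, Nat.mul_pos hn₀ hn₁, fun c => ?_⟩
  have e : SGA3b.powConv R C (n₀ * n₁) = ((toConv φ) ^ n₁).ofConv := by
    simp only [φ, SGA3b.powConv, toConv_ofConv, pow_mul]
  have h := h₁ (c - algebraMap R C (Coalgebra.counit c)) (by simp)
  rw [map_sub, AlgHom.commutes, sub_eq_zero, ← e] at h
  exact h

end Groth.Agent.MultFin
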