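import Groth.Agent.DiagHopfLib.Torsion
import Groth.Agent.PointCount.Ring
import Mathlib.RingTheory.Filtration
import Mathlib.FieldTheory.Finite.Basic
import Mathlib.Algebra.Algebra.ZMod
import Mathlib.RingTheory.FiniteType
import Mathlib.Algebra.MonoidAlgebra.Basic
import Mathlib.RingTheory.Localization.AtPrime.Basic
import Mathlib.Algebra.CharP.Lemmas

set_option autoImplicit false

/-!
Schematic density of the torsion subgroups of a group of multiplicative type.
-/

noncomputable section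

universe u w

open scoped TensorProduct
open Groth.Agent.TorusField

namespace Groth.Agent.MultFin

theorem finite_of_surjective_int {A : Type u} [CommRing A] [Algebra ℤ A] [Algebra.FiniteType ℤ A]
    {k : Type u} [Field k] (f : A →+* k) (hf : Function.Surjective f) : Finite k := by
  haveI := PointCount.isJacobsonRing_int
  haveI : Algebra.FiniteType ℤ k :=
    Algebra.FiniteType.of_surjective ({ f with commutes' := fun n => by simp } : A →ₐ[ℤ] k) hf
  haveI : Module.Finite ℤ k := finite_of_finite_type_of_isJacobsonRing ℤ k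
  obtain ⟨p, hp⟩ := CharP.exists k
  rcases eq_or_ne p 0 with rfl | hp0
  · haveI : CharZero k := CharP.charP_to_charZero k
    exact absurd (isField_of_isIntegral_of_isField (RingHom.injective_int (algebraMap ℤ k)) (Field.toIsField k))
      Int.not_isField
  · haveI : Fact p.Prime := ⟨(CharP.char_is_prime_or_zero k p).resolve_right hp0⟩
    letI : Algebra (ZMod p) k := ZMod.algebra k p
    haveI : IsScalarTower ℤ (ZMod p) k := IsScalarTower.of_algebraMap_eq fun n => by simp
    haveI : Module.Finite (ZMod p) k := Module.Finite.of_restrictScalars_finite ℤ (ZMod p) k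
    exact Module.finite_of_finite (ZMod p)

theorem pow_pow_sub_one_mem {A : Type u} [CommRing A] {Q : Ideal A} {p : ℕ} (hp : (p : A) ∈ Q) {h : A}
    (hh : h - 1 ∈ Q) (k : ℕ) : h ^ p ^ k - 1 ∈ Q ^ (k + 1) := by
  induction k with
  | zero => simpa using hh
  | succ k ih =>
    rw [pow_succ p k, pow_mul, ← geom_sum_mul, pow_succ' Q (k + 1)]
    refine Ideal.mul_mem_mul ?_ ih
    have h1 : h ^ p ^ k - 1 ∈ Q := Ideal.pow_le_self (Nat.succ_ne_zero k) ih
    have e : (∑ i ∈ Finset.range p, (h ^ p ^ k) ^ i) = (∑ i ∈ Finset.range p, ((h ^ p ^ k) ^ i - 1)) + p := by simp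
    rw [e]
    refine add_mem (Submodule.sum_mem _ fun i _ => ?_) hp
    rw [← geom_sum_mul]
    exact Ideal.mul_mem_left _ _ h1

/-- In a finite type `ℤ`-algebra an element killed away from the torsion loci of finitely many units is zero. -/
theorem exists_pow_mul_eq_zero {A : Type u} [CommRing A] [Algebra ℤ A] [Algebra.FiniteType ℤ A] {ι : Type w} (g : ι → Aˣ) (y a : A)
    (h : ∀ n : ℕ, 0 < n → ∃ e : ℕ, a ^ e * y ∈ Ideal.span (Set.range fun i => ((g i : A)) ^ n - 1)) :
    ∃ N : ℕ, a ^ N * y = 0 := by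
  classical
  haveI := PointCount.isJacobsonRing_int
  haveI : IsNoetherianRing A := Algebra.FiniteType.isNoetherianRing ℤ A
  haveI : IsJacobsonRing A := isJacobsonRing_of_finiteType (A := ℤ)
  let 𝔞 : Ideal A := (Ideal.span {y}).annihilator
  have hmem : ∀ r : A, r ∈ 𝔞 ↔ r * y = 0 := fun r => by simp [𝔞, Submodule.mem_annihilator_span_singleton]
  suffices ha : a ∈ 𝔞.radical by
    obtain ⟨N, hN⟩ := ha
    exact ⟨N, (hmem _).1 hN⟩
  rw [Ideal.radical_eq_jacobson, Ideal.jacobson, Submodule.mem_sInf]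
  intro (Q : Ideal A) ⟨hQ, hQm⟩
  haveI := hQm
  by_contra haQ
  letI : Field (A ⧸ Q) := Ideal.Quotient.field Q
  haveI : Finite (A ⧸ Q) := finite_of_surjective_int (A := A) (Ideal.Quotient.mk Q) Ideal.Quotient.mk_surjective
  letI : Fintype (A ⧸ Q) := Fintype.ofFinite _
  obtain ⟨p, hp⟩ := CharP.exists (A ⧸ Q)
  have hp0 : 0 < p := (CharP.char_is_prime (A ⧸ Q) p).pos
  have hpQ : (p : A) ∈ Q := Ideal.Quotient.eq_zero_iff_mem.1 (by rw [map_natCast]; exact CharP.cast_eq_zero _ p)
  let n₀ := Fintype.card (A ⧸ Q) - 1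
  have hn₀ : 0 < n₀ := Nat.sub_pos_of_lt Fintype.one_lt_card
  have hg : ∀ i, (g i : A) ^ n₀ - 1 ∈ Q := fun i => by
    rw [← Ideal.Quotient.eq_zero_iff_mem, map_sub, map_pow, map_one, FiniteField.pow_card_sub_one_eq_one, sub_self]
    exact ((g i).isUnit.map _).ne_zero
  let T := Localization.AtPrime Q
  have hy : algebraMap A T y = 0 := by
    rw [← Ideal.mem_bot, ← Ideal.iInf_pow_eq_bot_of_isLocalRing _ (IsLocalRing.maximalIdeal.isMaximal T).ne_top,
      Submodule.mem_iInf]
    intro k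
    obtain ⟨e, he⟩ := h (n₀ * p ^ k) (Nat.mul_pos hn₀ (pow_pos hp0 k))
    have h1 : a ^ e * y ∈ Q ^ (k + 1) := by
      refine (Ideal.span_le.2 ?_) he
      rintro _ ⟨i, rfl⟩
      show (g i : A) ^ (n₀ * p ^ k) - 1 ∈ Q ^ (k + 1)
      rw [pow_mul]
      exact pow_pow_sub_one_mem hpQ (hg i) k
    have h2 := Ideal.mem_map_of_mem (algebraMap A T) h1
    rw [Ideal.map_pow, Localization.AtPrime.map_eq_maximalIdeal, map_mul, map_pow] at h2
    have hu : IsUnit (algebraMap A T a ^ e) :=
      (IsLocalization.map_units T (⟨a, haQ⟩ : Q.primeCompl)).pow e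
    exact Ideal.pow_le_pow_right (Nat.le_succ k) ((Ideal.unit_mul_mem_iff_mem _ hu).1 h2)
  obtain ⟨⟨s, hs⟩, hsy⟩ := (IsLocalization.map_eq_zero_iff Q.primeCompl T y).1 hy
  exact hs (hQ ((hmem _).2 hsy))

section MonoidAlgebra

variable {M : Type u} [AddCommGroup M] {R : Type u} [CommRing R]

theorem mem_span_of_mapDomain_eq_zero (n : ℕ) {x : MonoidAlgebra R (Multiplicative M)}
    (hx : MonoidAlgebra.mapDomainAlgHom R R (AddMonoidHom.toMultiplicative (QuotientAddGroup.mk'
      (nsmulAddMonoidHom n : M →+ M).range)) x = 0) :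
    x ∈ Ideal.span (Set.range fun m : M => (MonoidAlgebra.single (Multiplicative.ofAdd m) (1 : R)) ^ n - 1) := by
  classical
  set H := (nsmulAddMonoidHom n : M →+ M).range
  set I := Ideal.span (Set.range fun m : M => (MonoidAlgebra.single (Multiplicative.ofAdd m) (1 : R)) ^ n - 1)
  let sec : MonoidAlgebra R (Multiplicative (M ⧸ H)) →ₗ[R] MonoidAlgebra R (Multiplicative M) :=
    MonoidAlgebra.mapDomainLinearMap R R fun q => Multiplicative.ofAdd (Quotient.out (Multiplicative.toAdd q))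
  set θ := MonoidAlgebra.mapDomainAlgHom R R (AddMonoidHom.toMultiplicative (QuotientAddGroup.mk' H))
  suffices h : x - sec (θ x) ∈ I by simpa [hx] using h
  clear hx
  induction x using MonoidAlgebra.induction_linear with
  | zero => simp
  | add p q hp hq =>
    rw [map_add, map_add, add_sub_add_comm]
    refine add_mem ?_ ?_
    · exact hp
    · exact hq
  | single m r =>
    obtain ⟨m, rfl⟩ := Multiplicative.ofAdd.surjective m
    have e : sec (θ (MonoidAlgebra.single (Multiplicative.ofAdd m) r)) =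
        MonoidAlgebra.single (Multiplicative.ofAdd (Quotient.out (m : M ⧸ H))) r := by
      simp [sec, θ]
    rw [e]
    have hmem : m - Quotient.out (m : M ⧸ H) ∈ H := by
      rw [← QuotientAddGroup.eq_iff_sub_mem]
      exact (Quotient.out_eq (m : M ⧸ H)).symm
    obtain ⟨v, hv⟩ := AddMonoidHom.mem_range.1 hmem
    rw [nsmulAddMonoidHom_apply] at hv
    have e2 : MonoidAlgebra.single (Multiplicative.ofAdd m) r -
        MonoidAlgebra.single (Multiplicative.ofAdd (Quotient.out (m : M ⧸ H))) r =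
        MonoidAlgebra.single (Multiplicative.ofAdd (Quotient.out (m : M ⧸ H))) r *
          (MonoidAlgebra.single (Multiplicative.ofAdd v) (1 : R) ^ n - 1) := by
      rw [mul_sub, mul_one, MonoidAlgebra.single_pow, MonoidAlgebra.single_mul_single, one_pow, mul_one, ← ofAdd_nsmul,
        ← ofAdd_add, hv, add_sub_cancel]
    rw [e2]
    exact Ideal.mul_mem_left _ _ (Ideal.subset_span ⟨v, rfl⟩)

theorem monoidAlgebra_dense [AddGroup.FG M] (y a : MonoidAlgebra R (Multiplicative M))
    (h : ∀ n : ℕ, 0 < n → ∃ e : ℕ, MonoidAlgebra.mapDomainAlgHom R R (AddMonoidHom.toMultiplicative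
      (QuotientAddGroup.mk' (nsmulAddMonoidHom n : M →+ M).range)) (a ^ e * y) = 0) :
    ∃ N : ℕ, a ^ N * y = 0 := by
  classical
  let R₀ := Algebra.adjoin ℤ (((a.coeff.support.image fun m => a.coeff m) ∪ (y.coeff.support.image fun m => y.coeff m) :
    Finset R) : Set R)
  haveI : Algebra.FiniteType ℤ R₀ := R₀.fg_iff_finiteType.1 (Subalgebra.fg_adjoin_finset _)
  let ι₀ : MonoidAlgebra R₀ (Multiplicative M) →+* MonoidAlgebra R (Multiplicative M) :=
    MonoidAlgebra.mapRingHom _ R₀.val.toRingHom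
  have hinj : Function.Injective ι₀ := fun p q hpq => by
    ext m
    exact congrArg (fun z => MonoidAlgebra.coeff z m) hpq
  have hpre : ∀ z : MonoidAlgebra R (Multiplicative M), (∀ m ∈ z.coeff.support, z.coeff m ∈ R₀) → ∃ z₀, ι₀ z₀ = z := by
    intro z hz
    refine ⟨∑ m ∈ z.coeff.support.attach, MonoidAlgebra.single m.1 ⟨z.coeff m.1, hz m.1 m.2⟩, ?_⟩
    conv_rhs => rw [← MonoidAlgebra.sum_coeff_single z, Finsupp.sum, ← Finset.sum_attach]
    simp [ι₀, map_sum]
  obtain ⟨a₀, ha₀⟩ := hpre a fun m hm => Algebra.subset_adjoin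
    (Finset.mem_coe.2 (Finset.mem_union_left _ (Finset.mem_image_of_mem _ hm)))
  obtain ⟨y₀, hy₀⟩ := hpre y fun m hm => Algebra.subset_adjoin
    (Finset.mem_coe.2 (Finset.mem_union_right _ (Finset.mem_image_of_mem _ hm)))
  haveI : Monoid.FG (Multiplicative M) :=
    AddMonoid.fg_iff_mul_fg.1 (AddGroup.fg_iff_addMonoid_fg.1 inferInstance)
  haveI : Algebra.FiniteType ℤ (MonoidAlgebra R₀ (Multiplicative M)) :=
    Algebra.FiniteType.trans (S := R₀) inferInstance inferInstance
  let g : M → (MonoidAlgebra R₀ (Multiplicative M))ˣ := fun m =>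
    Units.map (MonoidAlgebra.of R₀ (Multiplicative M)) (toUnits (Multiplicative.ofAdd m))
  obtain ⟨N, hN⟩ := exists_pow_mul_eq_zero g y₀ a₀ fun n hn => by
    obtain ⟨e, he⟩ := h n hn
    refine ⟨e, mem_span_of_mapDomain_eq_zero n ?_⟩
    set H := (nsmulAddMonoidHom n : M →+ M).range
    set f := AddMonoidHom.toMultiplicative (QuotientAddGroup.mk' H)
    let ιq : MonoidAlgebra R₀ (Multiplicative (M ⧸ H)) →+* MonoidAlgebra R (Multiplicative (M ⧸ H)) :=
      MonoidAlgebra.mapRingHom _ R₀.val.toRingHom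
    have hq : Function.Injective ιq := fun p q hpq => by
      ext m
      exact congrArg (fun z => MonoidAlgebra.coeff z m) hpq
    refine hq ?_
    have hc : ∀ z, ιq (MonoidAlgebra.mapDomainAlgHom R₀ R₀ f z) = MonoidAlgebra.mapDomainAlgHom R R f (ι₀ z) := by
      intro z
      induction z using MonoidAlgebra.induction_linear with
      | zero => simp
      | add p q hp hq => rw [map_add, map_add, map_add, map_add, hp, hq]
      | single m r => simp [ιq, ι₀]
    rw [hc, map_zero, map_mul, map_pow, ha₀, hy₀]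
    exact he
  exact ⟨N, by rw [← ha₀, ← hy₀, ← map_pow, ← map_mul, hN, map_zero]⟩

end MonoidAlgebra

/-- Density after splitting. -/
theorem split_dense {R : Type u} [CommRing R] {A : Type u} [CommRing A] [HopfAlgebra R A]
    {S : Type u} [CommRing S] [Algebra R S] {M : Type u} [AddCommGroup M] [AddGroup.FG M] (E : Split R A M S) (y a : A)
    (h : ∀ n : ℕ, 0 < n → ∃ e : ℕ, a ^ e * y ∈ SGA3b.torsionIdeal R A n) :
    ∃ N : ℕ, (1 : S) ⊗ₜ[R] (a ^ N * y) = 0 := by
  classical
  let Ψl : S ⊗[R] A →ₗ[S] MonoidAlgebra S (Multiplicative M) :=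
    E.e.constr S fun m => MonoidAlgebra.single (Multiplicative.ofAdd m) (1 : S)
  have hb : ∀ m, Ψl (E.e m) = MonoidAlgebra.single (Multiplicative.ofAdd m) (1 : S) := fun m =>
    E.e.constr_basis _ _ _
  let Ψ : S ⊗[R] A →ₐ[S] MonoidAlgebra S (Multiplicative M) := AlgHom.ofLinearMap Ψl
    (by rw [← E.e_zero, hb]; rfl)
    (by
      have : ((LinearMap.mul S (S ⊗[R] A)).compr₂ Ψl) =
          (LinearMap.mul S (MonoidAlgebra S (Multiplicative M))).compl₁₂ Ψl Ψl :=
        E.e.ext fun p => E.e.ext fun q => by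
          simp [← E.e_add, hb, MonoidAlgebra.single_mul_single, ← ofAdd_add]
      exact fun p q => LinearMap.congr_fun₂ this p q)
  have hΨ : Function.Injective Ψ := by
    let back : MonoidAlgebra S (Multiplicative M) →ₗ[S] S ⊗[R] A :=
      (Finsupp.linearCombination S fun m => E.e (Multiplicative.toAdd m)) ∘ₗ
        (MonoidAlgebra.coeffLinearEquiv S).toLinearMap
    have : back ∘ₗ Ψl = LinearMap.id := E.e.ext fun m => by simp [hb, back]
    exact Function.LeftInverse.injective (g := back) fun z => LinearMap.congr_fun this z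
  obtain ⟨N, hN⟩ := monoidAlgebra_dense (Ψ ((1 : S) ⊗ₜ[R] y)) (Ψ ((1 : S) ⊗ₜ[R] a)) fun n hn => by
    obtain ⟨e, he⟩ := h n hn
    refine ⟨e, ?_⟩
    set H := (nsmulAddMonoidHom n : M →+ M).range
    let F : S ⊗[R] A →ₐ[S] MonoidAlgebra S (Multiplicative (M ⧸ H)) :=
      (MonoidAlgebra.mapDomainAlgHom S S (AddMonoidHom.toMultiplicative (QuotientAddGroup.mk' H))).comp Ψ
    have hFe : ∀ m, F (E.e m) = MonoidAlgebra.single (Multiplicative.ofAdd (m : M ⧸ H)) (1 : S) := fun m => by
      show MonoidAlgebra.mapDomainAlgHom S S _ (Ψl (E.e m)) = _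
      rw [hb]
      simp
    have hFP : F.comp (Algebra.TensorProduct.map (AlgHom.id S S) (SGA3b.powConv R A n)) =
        (Algebra.ofId S _).comp (ev1 R A S) := AlgHom.toLinearMap_injective <| E.e.ext fun m => by
      show F (Algebra.TensorProduct.map (AlgHom.id S S) (SGA3b.powConv R A n) (E.e m)) = algebraMap S _ (ev1 R A S (E.e m))
      rw [DiagHopf.map_powConv_gl n (E.gl m), map_pow, hFe, (E.gl m).2, map_one, MonoidAlgebra.single_pow, one_pow,
        ← ofAdd_nsmul, show n • (m : M ⧸ H) = 0 from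
          (QuotientAddGroup.eq_zero_iff _).2 (AddMonoidHom.mem_range.2 ⟨m, rfl⟩)]
      rfl
    let α : A →ₐ[R] MonoidAlgebra S (Multiplicative (M ⧸ H)) :=
      (F.restrictScalars R).comp Algebra.TensorProduct.includeRight
    have hα : SGA3b.torsionIdeal R A n ≤ RingHom.ker α := by
      rw [SGA3b.torsionIdeal, Ideal.map_le_iff_le_comap]
      intro x hx
      rw [RingHom.mem_ker, Bialgebra.counitAlgHom_apply] at hx
      have := DFunLike.congr_fun hFP ((1 : S) ⊗ₜ[R] x)
      show F ((1 : S) ⊗ₜ[R] SGA3b.powConv R A n x) = 0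
      simpa [ev1, hx] using this
    have h0 : α (a ^ e * y) = 0 := RingHom.mem_ker.1 (hα he)
    rw [map_mul, map_pow] at h0
    rw [map_mul, map_pow]
    exact h0
  refine ⟨N, hΨ ?_⟩
  rw [map_zero, ← hN]
  show Ψ ((Algebra.TensorProduct.includeRight : A →ₐ[R] S ⊗[R] A) (a ^ N * y)) = _
  rw [map_mul, map_pow, map_mul, map_pow]
  rfl

theorem exists_pow_mul_eq_zero_of_isMultType {R : Type u} [CommRing R] {A : Type u} [CommRing A] [HopfAlgebra R A]
    (hft : Algebra.FiniteType R A) (h : SGA3b.IsMultType R A) (y a : A)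
    (hy : ∀ n : ℕ, 0 < n → ∃ e : ℕ, a ^ e * y ∈ SGA3b.torsionIdeal R A n) :
    ∃ N : ℕ, a ^ N * y = 0 := by
  classical
  haveI := hft
  obtain ⟨s, hs, H⟩ := DiagHopf.exists_cover_split h
  obtain ⟨t, hts, ht⟩ := Submodule.mem_span_finite_of_mem_span ((Ideal.eq_top_iff_one _).1 hs)
  have key : ∀ f ∈ t, ∃ N k : ℕ, f ^ k • (a ^ N * y) = 0 := by
    intro f hf
    obtain ⟨S, _, _, _, _, N₀, _, hff, ⟨E⟩⟩ := H f (hts hf)
    haveI := hff
    rcases subsingleton_or_nontrivial S with hS | hS
    · haveI : Subsingleton (Localization.Away f) := ⟨fun p q =>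
        FaithfulSMul.algebraMap_injective (Localization.Away f) S (Subsingleton.elim _ _)⟩
      obtain ⟨⟨_, k, rfl⟩, hk⟩ := (IsLocalization.map_eq_zero_iff (Submonoid.powers f) (Localization.Away f) (1 : R)).1
        (Subsingleton.elim _ _)
      refine ⟨0, k, ?_⟩
      rw [show f ^ k = 0 by simpa using hk, zero_smul]
    · haveI : AddGroup.FG (Additive N₀) := AddGroup.fg_iff_addMonoid_fg.2 (DiagHopf.fg_of_split' E)
      obtain ⟨N, hN⟩ := split_dense E y a hy
      let x := a ^ N * y
      let Rf := Localization.Away f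
      have h1 : (1 : Rf) ⊗ₜ[R] x = 0 := by
        refine Module.FaithfullyFlat.tensorProduct_mk_injective (A := Rf) (B := S) (Rf ⊗[R] A) ?_
        apply (TensorProduct.AlgebraTensorModule.cancelBaseChange R Rf S S A).injective
        simpa using hN
      have h2 : TensorProduct.mk R Rf A 1 x = 0 := h1
      haveI : IsLocalizedModule (Submonoid.powers f) (TensorProduct.mk R Rf A 1) :=
        (isLocalizedModule_iff_isBaseChange (Submonoid.powers f) Rf _).2 (TensorProduct.isBaseChange R A Rf)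
      obtain ⟨⟨_, k, rfl⟩, hk⟩ := (IsLocalizedModule.eq_zero_iff (Submonoid.powers f) (TensorProduct.mk R Rf A 1)).1 h2
      exact ⟨N, k, hk⟩
  choose N k hk using key
  let Nm := t.attach.sup fun f => N f.1 f.2
  refine ⟨Nm, ?_⟩
  have hpow : Ideal.span ((fun f : {f // f ∈ t} => f.1 ^ k f.1 f.2) '' Set.univ) = ⊤ := by
    rw [← Ideal.radical_eq_top, eq_top_iff, ← (Ideal.eq_top_iff_one _).2 ht]
    refine Ideal.span_le.2 fun f hf => ⟨k f hf, Ideal.subset_span ⟨⟨f, hf⟩, trivial, rfl⟩⟩
  have hall : Ideal.span ((fun f : {f // f ∈ t} => f.1 ^ k f.1 f.2) '' Set.univ) ≤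
      LinearMap.ker ((LinearMap.id : R →ₗ[R] R).smulRight (a ^ Nm * y)) := by
    refine Ideal.span_le.2 ?_
    rintro _ ⟨f, -, rfl⟩
    show f.1 ^ k f.1 f.2 • (a ^ Nm * y) = 0
    obtain ⟨d, hd⟩ := Nat.exists_eq_add_of_le
      (Finset.le_sup (f := fun f : {f // f ∈ t} => N f.1 f.2) (Finset.mem_attach _ f))
    rw [show Nm = N f.1 f.2 + d from hd, pow_add, mul_assoc, mul_left_comm, ← mul_smul_comm, hk, mul_zero]
  have := hall (hpow ▸ Submodule.mem_top : (1 : R) ∈ _)
  simpa using this

end Groth.Agent.MultFin
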