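import Groth.Agent.MultFinLib.Dense
import Groth.Agent.HomLiftLib.Points
import Groth.Agent.HomLiftLib.TorsionLocal

set_option autoImplicit false

/-!
Schematic density of the torsion in a group with an open subgroup of multiplicative type.
-/

noncomputable section

universe u

open scoped TensorProduct
open WithConv Groth.Agent.TorusField Groth.Agent.DiagHopf

namespace Groth.Agent.MultFin

variable {L : Type u} [Field L] {N : Type u} [CommGroup N] {C : Type u} [CommRing C] [HopfAlgebra L C]

/-- Translation by a point. -/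
def transl (x : WithConv (C →ₐ[L] L)) : C →ₐ[L] C :=
  (toConv ((Algebra.ofId L C).comp x.ofConv) * toConv (AlgHom.id L C)).ofConv

theorem comp_transl {D : Type u} [CommRing D] [Algebra L D] (f : C →ₐ[L] D) (x : WithConv (C →ₐ[L] L)) :
    toConv (f.comp (transl x)) = toConv ((Algebra.ofId L D).comp x.ofConv) * toConv f := by
  rw [transl, AlgHom.comp_convMul_distrib, toConv_ofConv, ofConv_toConv, ofConv_toConv, AlgHom.comp_id]
  congr 2
  exact AlgHom.ext fun c => by simp

theorem apply_transl (x y : WithConv (C →ₐ[L] L)) (c : C) : y.ofConv (transl x c) = (x * y).ofConv c := by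
  have h := comp_transl y.ofConv x
  rw [toConv_ofConv, show toConv ((Algebra.ofId L L).comp x.ofConv) = x from
    WithConv.ofConv_injective (AlgHom.ext fun c => rfl)] at h
  exact DFunLike.congr_fun (congrArg WithConv.ofConv h) c

theorem transl_transl_inv (x : WithConv (C →ₐ[L] L)) (z : C) : transl x (transl x⁻¹ z) = z := by
  have h := comp_transl (transl x) x⁻¹
  rw [show toConv (transl x) = toConv ((Algebra.ofId L C).comp x.ofConv) * toConv (AlgHom.id L C) from
    toConv_ofConv _, ← mul_assoc] at h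
  have e : toConv ((Algebra.ofId L C).comp x⁻¹.ofConv) * toConv ((Algebra.ofId L C).comp x.ofConv) = 1 := by
    rw [← toConv_ofConv (toConv _ * toConv _), ← AlgHom.comp_convMul_distrib, inv_mul_cancel]
    apply WithConv.ofConv_injective
    apply AlgHom.ext
    intro c
    simp [AlgHom.convOne_def]
  rw [e, one_mul] at h
  exact DFunLike.congr_fun (congrArg WithConv.ofConv h) z

theorem id_pow_single {Q : Type u} [CommGroup Q] (k : ℕ) (q : Q) :
    ((toConv (AlgHom.id L (MonoidAlgebra L Q))) ^ k).ofConv (MonoidAlgebra.single q 1) = MonoidAlgebra.single (q ^ k) 1 := by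
  induction k with
  | zero => simp [AlgHom.convOne_def, ← MonoidAlgebra.one_def]
  | succ k ih =>
    rw [pow_succ, AlgHom.convMul_apply, pow_succ]
    have : Coalgebra.comul (R := L) (MonoidAlgebra.single q (1 : L)) =
        MonoidAlgebra.single q (1 : L) ⊗ₜ[L] MonoidAlgebra.single q 1 := by simp
    rw [this]
    simp [ih, MonoidAlgebra.single_mul_single]

theorem bialgHom_pow_eq_one {Q : Type u} [CommGroup Q] (g : C →ₐc[L] MonoidAlgebra L Q) {n : ℕ}
    (hn : ∀ q : Q, q ^ n = 1) : (toConv (g : C →ₐ[L] MonoidAlgebra L Q)) ^ n = 1 := by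
  have hid : (toConv (AlgHom.id L (MonoidAlgebra L Q))) ^ n = 1 := by
    apply WithConv.ofConv_injective
    refine MonoidAlgebra.algHom_ext (fun q => ?_) (Subsingleton.elim _ _)
    rw [id_pow_single, hn]
    simp [AlgHom.convOne_def, ← MonoidAlgebra.one_def]
  have key : ∀ k, (toConv (g : C →ₐ[L] MonoidAlgebra L Q)) ^ k =
      toConv (((toConv (AlgHom.id L (MonoidAlgebra L Q))) ^ k).ofConv.comp (g : C →ₐ[L] MonoidAlgebra L Q)) := by
    intro k
    induction k with
    | zero =>
      apply WithConv.ofConv_injective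
      apply AlgHom.ext
      intro c
      simp [AlgHom.convOne_def]
    | succ k ih => rw [pow_succ, pow_succ, AlgHom.convMul_comp_bialgHom_distrib, ← ih]; rfl
  rw [key, hid]
  apply WithConv.ofConv_injective
  apply AlgHom.ext
  intro c
  simp [AlgHom.convOne_def]

theorem conv_comp_powConv {D : Type u} [CommRing D] [Algebra L D] (f : C →ₐ[L] D) (k : ℕ) :
    toConv (f.comp (SGA3b.powConv L C k)) = (toConv f) ^ k := by
  induction k with
  | zero =>
    rw [pow_zero, SGA3b.powConv, pow_zero, AlgHom.convOne_def, AlgHom.convOne_def, ofConv_toConv]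
    congr 1
    exact AlgHom.ext fun a => f.commutes _
  | succ k IH =>
    rw [SGA3b.powConv, pow_succ, pow_succ, AlgHom.comp_convMul_distrib, ← SGA3b.powConv, IH, ofConv_toConv,
      AlgHom.comp_id, toConv_ofConv]

/-- Every point differs from a point of the open subgroup by a torsion point. -/
theorem exists_torsion_translate [IsAlgClosed L] [Coalgebra.IsCocomm L C] [Algebra.FiniteType L C]
    (π : C →ₐc[L] MonoidAlgebra L N) (hπ : Function.Surjective π) {e : C} (he : IsIdempotentElem e)
    (hker : ∀ x, π x = 0 ↔ x ∈ Ideal.span {e}) (x : WithConv (C →ₐ[L] L)) :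
    ∃ (h : WithConv (C →ₐ[L] L)) (d : ℕ), 0 < d ∧ h ^ d = 1 ∧ (h * x).ofConv e = 0 := by
  classical
  haveI : IsNoetherianRing C := Algebra.FiniteType.isNoetherianRing L C
  haveI : Algebra.FiniteType L (MonoidAlgebra L N) :=
    Algebra.FiniteType.of_surjective (π : C →ₐ[L] MonoidAlgebra L N) hπ
  haveI : Group.FG N := MonoidAlgebra.finiteType_iff_group_fg.1 (inferInstance : Algebra.FiniteType L (MonoidAlgebra L N))
  have hπe : π e = 0 := (hker e).2 (Ideal.subset_span rfl)
  let P : (N →* Lˣ) →* WithConv (C →ₐ[L] L) :=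
    { toFun := fun g => toConv ((HomLift.chi g).ofConv.comp (π : C →ₐ[L] MonoidAlgebra L N))
      map_one' := by
        rw [HomLift.chi_one]
        apply WithConv.ofConv_injective
        apply AlgHom.ext
        intro y
        simp [AlgHom.convOne_def]
      map_mul' := fun g g' => by
        rw [HomLift.chi_mul, AlgHom.convMul_comp_bialgHom_distrib] }
  have hPe : ∀ g, (P g).ofConv e = 0 := fun g => by
    show (HomLift.chi g).ofConv (π e) = 0
    rw [hπe, map_zero]
  have hPx : ∀ x : WithConv (C →ₐ[L] L), x.ofConv e = 0 → ∃ g, P g = x := fun x hx => by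
    have hle : ∀ y, π y = 0 → x.ofConv y = 0 := fun y hy => by
      obtain ⟨c, rfl⟩ := Ideal.mem_span_singleton'.1 ((hker y).1 hy)
      rw [map_mul, hx, mul_zero]
    obtain ⟨g, hg⟩ := HomLift.exists_chi (toConv ((π : C →ₐ[L] MonoidAlgebra L N).liftOfSurjective hπ x.ofConv hle))
    refine ⟨g, ?_⟩
    apply WithConv.ofConv_injective
    show (HomLift.chi g).ofConv.comp (π : C →ₐ[L] MonoidAlgebra L N) = x.ofConv
    rw [hg]
    exact AlgHom.liftOfSurjective_comp (π : C →ₐ[L] MonoidAlgebra L N) hπ x.ofConv hle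
  obtain ⟨i, -, j, -, hij, heq⟩ := Set.infinite_univ.exists_ne_map_eq_of_mapsTo
    (f := fun i : ℕ => transl (x ^ i) e) (t := {e : C | IsIdempotentElem e})
    (fun i _ => he.map (transl (x ^ i))) (HomLift.finite_idempotents C)
  obtain ⟨m, hm, hxm⟩ : ∃ m, 0 < m ∧ (x ^ m).ofConv e = 0 := by
    have key : ∀ a b, a < b → transl (x ^ a) e = transl (x ^ b) e → ∃ m, 0 < m ∧ (x ^ m).ofConv e = 0 := by
      intro a b hab h
      refine ⟨b - a, Nat.sub_pos_of_lt hab, ?_⟩
      have h2 := congrArg (fun c => ((x ^ a)⁻¹).ofConv c) h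
      simp only [apply_transl, mul_inv_cancel] at h2
      rw [pow_sub _ hab.le, ← h2]
      have hc := CoalgHomClass.counit_comp_apply π e
      rw [hπe, map_zero] at hc
      simp [AlgHom.convOne_def, ← hc]
    rcases lt_or_gt_of_ne hij with h | h
    · exact key _ _ h heq
    · exact key _ _ h heq.symm
  obtain ⟨g, hg⟩ := hPx _ hxm
  obtain ⟨d, hd, hroot⟩ := HomLift.exists_root L (N := N)
  obtain ⟨h, hh⟩ := hroot g m hm
  have ht : (x * (P h)⁻¹) ^ (m * d) = 1 := by
    have e1 : (P h) ^ (m * d) = (x ^ m) ^ d := by rw [← hg, ← map_pow, ← map_pow, hh]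
    rw [mul_pow, inv_pow, e1, ← pow_mul, mul_inv_cancel]
  refine ⟨(x * (P h)⁻¹)⁻¹, m * d, Nat.mul_pos hm hd, by rw [inv_pow, ht, inv_one], ?_⟩
  rw [mul_inv_rev, inv_inv, inv_mul_cancel_right]
  exact hPe h

theorem field_dense [IsAlgClosed L] [Coalgebra.IsCocomm L C] [Algebra.FiniteType L C]
    (π : C →ₐc[L] MonoidAlgebra L N) (hπ : Function.Surjective π) {e : C} (he : IsIdempotentElem e)
    (hker : ∀ x, π x = 0 ↔ x ∈ Ideal.span {e}) (y a : C)
    (hy : ∀ n : ℕ, 0 < n → ∃ k : ℕ, a ^ k * y ∈ SGA3b.torsionIdeal L C n) :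
    ∃ K : ℕ, a ^ K * y = 0 := by
  classical
  haveI : Algebra.FiniteType L (MonoidAlgebra L N) :=
    Algebra.FiniteType.of_surjective (π : C →ₐ[L] MonoidAlgebra L N) hπ
  haveI : Group.FG N := MonoidAlgebra.finiteType_iff_group_fg.1 (inferInstance : Algebra.FiniteType L (MonoidAlgebra L N))
  haveI : AddGroup.FG (Additive N) := AddGroup.fg_iff_addMonoid_fg.2 (Monoid.fg_iff_add_fg.1
    ((Group.fg_iff_monoid_fg.1 inferInstance)))
  -- finitely many translates of the subgroup cover
  let T : Set (WithConv (C →ₐ[L] L)) := {h | ∃ d, 0 < d ∧ h ^ d = 1}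
  have hcov : Ideal.span ((fun h => 1 - transl h e) '' T) = ⊤ := by
    by_contra hne
    obtain ⟨Q, hQ, hle⟩ := Ideal.exists_le_maximal _ hne
    letI := Ideal.Quotient.field Q
    haveI : Module.Finite L (C ⧸ Q) := finite_of_finite_type_of_isJacobsonRing L (C ⧸ Q)
    let q : C →ₐ[L] L := (IsAlgClosed.lift (R := L) (S := C ⧸ Q) (M := L)).comp (Ideal.Quotient.mkₐ L Q)
    obtain ⟨h, d, hd, hhd, hh⟩ := exists_torsion_translate π hπ he hker (toConv q)
    have h1 : q (1 - transl h e) = 0 := by
      show IsAlgClosed.lift (Ideal.Quotient.mk Q (1 - transl h e)) = 0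
      rw [Ideal.Quotient.eq_zero_iff_mem.2 (hle (Ideal.subset_span ⟨h, ⟨d, hd, hhd⟩, rfl⟩)), map_zero]
    have h2 : q (transl h e) = 0 := (apply_transl h (toConv q) e).trans hh
    rw [map_sub, map_one, h2, sub_zero] at h1
    exact one_ne_zero h1
  obtain ⟨t, hts, ht⟩ := Submodule.mem_span_finite_of_mem_span ((Ideal.eq_top_iff_one _).1 hcov)
  -- on each translate
  have key : ∀ s ∈ t, ∃ K : ℕ, s * (a ^ K * y) = 0 := by
    intro s hs
    obtain ⟨h₀, ⟨d, hd, hhd₀⟩, rfl⟩ := hts hs
    let h := h₀⁻¹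
    have hhd : h ^ d = 1 := by rw [inv_pow, hhd₀, inv_one]
    obtain ⟨K, hK⟩ := monoidAlgebra_dense (R := L) (M := Additive N) (π (transl h y)) (π (transl h a)) fun n hn => by
      obtain ⟨k, hk⟩ := hy (d * n) (Nat.mul_pos hd hn)
      refine ⟨k, ?_⟩
      set H := (nsmulAddMonoidHom n : Additive N →+ Additive N).range
      let θ := MonoidAlgebra.mapDomainBialgHom L
        (AddMonoidHom.toMultiplicative (QuotientAddGroup.mk' H) : Multiplicative (Additive N) →* _)
      let f : C →ₐc[L] MonoidAlgebra L (Multiplicative (Additive N ⧸ H)) := θ.comp π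
      have hq : ∀ q : Multiplicative (Additive N ⧸ H), q ^ (d * n) = 1 := fun q => by
        obtain ⟨q, rfl⟩ := Multiplicative.ofAdd.surjective q
        obtain ⟨m, rfl⟩ := QuotientAddGroup.mk_surjective q
        rw [← ofAdd_nsmul, ← QuotientAddGroup.mk_nsmul,
          show ((((d * n) • m : Additive N)) : Additive N ⧸ H) = 0 from
            (QuotientAddGroup.eq_zero_iff _).2 (AddMonoidHom.mem_range.2 ⟨d • m, by
              rw [nsmulAddMonoidHom_apply, smul_smul, mul_comm]⟩)]
        rfl
      let Φ : C →ₐ[L] MonoidAlgebra L (Multiplicative (Additive N ⧸ H)) :=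
        (f : C →ₐ[L] MonoidAlgebra L (Multiplicative (Additive N ⧸ H))).comp (transl h)
      have hΦ : (toConv Φ) ^ (d * n) = 1 := by
        have e1 : toConv ((Algebra.ofId L (MonoidAlgebra L (Multiplicative (Additive N ⧸ H)))).comp h.ofConv) ^ (d * n) = 1 := by
          rw [← conv_comp_powConv, AlgHom.comp_assoc]
          have h3 := congrArg WithConv.ofConv (conv_comp_powConv h.ofConv (d * n))
          rw [ofConv_toConv, toConv_ofConv, pow_mul, hhd, one_pow] at h3
          rw [h3]
          apply WithConv.ofConv_injective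
          apply AlgHom.ext
          intro c
          simp [AlgHom.convOne_def]
        rw [comp_transl]
        refine (mul_pow (toConv ((Algebra.ofId L (MonoidAlgebra L (Multiplicative (Additive N ⧸ H)))).comp h.ofConv))
          (toConv (f : C →ₐ[L] MonoidAlgebra L (Multiplicative (Additive N ⧸ H)))) (d * n)).trans ?_
        rw [e1, bialgHom_pow_eq_one f hq]
        exact _root_.one_mul (1 : WithConv (C →ₐ[L] MonoidAlgebra L (Multiplicative (Additive N ⧸ H))))
      have hle : SGA3b.torsionIdeal L C (d * n) ≤ RingHom.ker Φ := by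
        rw [SGA3b.torsionIdeal, Ideal.map_le_iff_le_comap]
        intro c hc
        show Φ (SGA3b.powConv L C (d * n) c) = 0
        have h3 := DFunLike.congr_fun (congrArg WithConv.ofConv ((conv_comp_powConv Φ (d * n)).trans hΦ)) c
        refine h3.trans ?_
        simp [AlgHom.convOne_def, show Coalgebra.counit (R := L) c = 0 from hc]
      have h0 : Φ (a ^ k * y) = 0 := RingHom.mem_ker.1 (hle hk)
      rw [map_mul, map_pow] at h0
      rw [map_mul, map_pow]
      exact h0
    refine ⟨K, ?_⟩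
    have h4 : π (transl h (a ^ K * y)) = 0 := by rw [map_mul, map_pow, map_mul, map_pow]; exact hK
    obtain ⟨c, hc⟩ := Ideal.mem_span_singleton'.1 ((hker _).1 h4)
    have h5 := congrArg (transl h₀) hc
    rw [transl_transl_inv, map_mul] at h5
    show (1 - transl h₀ e) * (a ^ K * y) = 0
    rw [← h5]
    have he2 : transl h₀ e * transl h₀ e = transl h₀ e := he.map (transl h₀)
    linear_combination -(transl h₀ c) * he2
  choose K hK using key
  let Km := t.attach.sup fun f => K f.1 f.2
  refine ⟨Km, ?_⟩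
  have hle : Ideal.span (↑t : Set C) ≤ (Ideal.span {a ^ Km * y}).annihilator := by
    refine Ideal.span_le.2 fun s hs => (Submodule.mem_annihilator_span_singleton _ _).2 ?_
    obtain ⟨d, hd⟩ := Nat.exists_eq_add_of_le
      (Finset.le_sup (f := fun f : {f // f ∈ t} => K f.1 f.2) (Finset.mem_attach _ ⟨s, hs⟩))
    show s * (a ^ Km * y) = 0
    rw [show Km = K s hs + d from hd, pow_add, show s * (a ^ K s hs * a ^ d * y) = a ^ d * (s * (a ^ K s hs * y)) by ring,
      hK, mul_zero]
  simpa using (Submodule.mem_annihilator_span_singleton _ _).1 (hle ht)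

/-- Density over an arbitrary field. -/
theorem dense_of_open {k : Type u} [Field k] {C : Type u} [CommRing C] [HopfAlgebra k C] [Coalgebra.IsCocomm k C]
    (hft : Algebra.FiniteType k C) (e : C) (he : IsIdempotentElem e) [(Ideal.span {e}).IsHopfIdeal k]
    (hG : SGA3b.IsMultType k (C ⧸ Ideal.span {e})) (y a : C)
    (hy : ∀ n : ℕ, 0 < n → ∃ j : ℕ, a ^ j * y ∈ SGA3b.torsionIdeal k C n) :
    ∃ K : ℕ, a ^ K * y = 0 := by
  haveI := hft
  obtain ⟨L₀, _, _, N, _, ⟨E₀⟩⟩ := exists_field_split hG
  obtain ⟨EL⟩ := exists_split_algClosure' E₀ (AlgebraicClosure k)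
  let L := AlgebraicClosure k
  let φ : C →ₐc[k] C ⧸ Ideal.span {e} := Bialgebra.Quotient.mkBialgHom (Ideal.span {e})
  obtain ⟨ε⟩ := exists_bialgEquiv EL
  let π : L ⊗[k] C →ₐc[L] MonoidAlgebra L N :=
    (ε : L ⊗[k] (C ⧸ Ideal.span {e}) →ₐc[L] MonoidAlgebra L N).comp (Bialgebra.TensorProduct.map (BialgHom.id L L) φ)
  have hπ : ∀ z, π z = ε ((φ : C →ₐ[k] C ⧸ Ideal.span {e}).toLinearMap.lTensor L z) := fun z => by
    induction z using TensorProduct.induction_on with
    | zero => simp
    | add a b ha hb => simp only [map_add, ha, hb]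
    | tmul c y => rfl
  have hφ : Function.Surjective (φ : C →ₐ[k] C ⧸ Ideal.span {e}) := Ideal.Quotient.mk_surjective
  have hπs : Function.Surjective π := fun y => by
    obtain ⟨w, hw⟩ := LinearMap.lTensor_surjective L (g := (φ : C →ₐ[k] C ⧸ Ideal.span {e}).toLinearMap) hφ (ε.symm y)
    exact ⟨w, by rw [hπ, hw]; exact ε.toAlgEquiv.apply_symm_apply y⟩
  have hker' : ∀ z, π z = 0 ↔ z ∈ Ideal.span {(1 : L) ⊗ₜ[k] e} := by
    intro z
    have hk := Algebra.TensorProduct.lTensor_ker (R := k) (A := L) (φ : C →ₐ[k] C ⧸ Ideal.span {e}) hφ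
    have hspan : RingHom.ker (φ : C →ₐ[k] C ⧸ Ideal.span {e}) = Ideal.span {e} := Ideal.mk_ker
    rw [hspan, Ideal.map_span, Set.image_singleton] at hk
    have e1 : π z = 0 ↔ (φ : C →ₐ[k] C ⧸ Ideal.span {e}).toLinearMap.lTensor L z = 0 := by
      rw [hπ]
      exact ⟨fun h => ε.toAlgEquiv.injective (h.trans (map_zero ε.toAlgEquiv).symm), fun h => by rw [h, map_zero]⟩
    rw [e1]
    exact SetLike.ext_iff.1 hk z
  let inc : C →ₐ[k] L ⊗[k] C := Algebra.TensorProduct.includeRight
  obtain ⟨K, hK⟩ := field_dense π hπs (he.map inc) hker' (inc y) (inc a) fun n hn => by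
    obtain ⟨j, hj⟩ := hy n hn
    refine ⟨j, ?_⟩
    rw [← map_pow, ← map_mul]
    refine (?_ : SGA3b.torsionIdeal k C n ≤ (SGA3b.torsionIdeal L (L ⊗[k] C) n).comap inc) hj
    rw [SGA3b.torsionIdeal, Ideal.map_le_iff_le_comap]
    intro c hc
    show (1 : L) ⊗ₜ[k] SGA3b.powConv k C n c ∈ SGA3b.torsionIdeal L (L ⊗[k] C) n
    rw [← HomLift.includeRight_powConv]
    refine Ideal.mem_map_of_mem _ ?_
    show Coalgebra.counit (R := L) ((1 : L) ⊗ₜ[k] c) = 0
    rw [TensorProduct.counit_tmul, show Coalgebra.counit (R := k) c = 0 from hc, zero_smul]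
  refine ⟨K, Module.FaithfullyFlat.tensorProduct_mk_injective (A := k) (B := L) C ?_⟩
  show inc (a ^ K * y) = inc 0
  rw [map_mul, map_pow, map_zero, hK]

end Groth.Agent.MultFin
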