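import Mathlib.RingTheory.Bialgebra.TensorProduct
import Mathlib.RingTheory.Coalgebra.GroupLike
import Mathlib.RingTheory.Nakayama
import Mathlib.RingTheory.Nilpotent.Lemmas
import Mathlib.RingTheory.Nilpotent.Basic
import Mathlib.RingTheory.FiniteStability
import Mathlib.LinearAlgebra.TensorProduct.RightExactness
import Mathlib.RingTheory.LocalRing.ResidueField.Ideal
import Mathlib.RingTheory.TensorProduct.Finite
import Mathlib.Algebra.Module.LocalizedModule.IsLocalization
import Mathlib.RingTheory.IsTensorProduct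
import Mathlib.Data.Nat.Choose.Sum
import Mathlib.GroupTheory.Finiteness
import Mathlib.Tactic.LinearCombination
import Mathlib.Tactic.Ring

set_option autoImplicit false

/-!
Group-like generators of a bialgebra with finite closed fibre over a local ring have finite order.
-/

noncomputable section

universe u

open scoped TensorProduct

namespace Groth.Agent.MultFin

section Elementary

variable {B : Type u} [CommRing B]

theorem pow_sub_one_mem_sq {I : Ideal B} {g : B} (hg : g - 1 ∈ I) (k : ℕ) :
    g ^ k - 1 - k * (g - 1) ∈ I * I := by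
  induction k with
  | zero => simp
  | succ k ih =>
    have e : g ^ (k + 1) - 1 - ((k + 1 : ℕ) : B) * (g - 1) =
        g * (g ^ k - 1 - k * (g - 1)) + k * ((g - 1) * (g - 1)) := by
      push_cast
      ring
    rw [e]
    exact add_mem (Ideal.mul_mem_left _ _ ih) (Ideal.mul_mem_left _ _ (Ideal.mul_mem_mul hg hg))

theorem exists_pow_eq_one {n a : ℕ} {u : B} (hn : 0 < n) (hu : IsNilpotent u) (ha : (n : B) ^ a * u = 0) :
    ∃ k, 0 < k ∧ (1 + u) ^ k = 1 := by
  obtain ⟨N, hN⟩ := hu
  refine ⟨n ^ a * N.factorial, Nat.mul_pos (pow_pos hn a) N.factorial_pos, ?_⟩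
  rw [add_comm, add_pow, Finset.sum_eq_single 0]
  · simp
  · intro k _ hk
    rcases le_or_gt N k with h | h
    · rw [pow_eq_zero_of_le h hN, zero_mul, zero_mul]
    · obtain ⟨j, rfl⟩ : ∃ j, k = j + 1 := ⟨k - 1, by omega⟩
      obtain ⟨c, hc⟩ : j + 1 ∣ N.factorial := Nat.dvd_factorial (by omega) h.le
      have hpos : 0 < n ^ a * N.factorial := Nat.mul_pos (pow_pos hn a) N.factorial_pos
      obtain ⟨m, hm⟩ : ∃ m, n ^ a * N.factorial = m + 1 := ⟨_, (Nat.succ_pred_eq_of_pos hpos).symm⟩
      have e : (n ^ a * N.factorial).choose (j + 1) = n ^ a * (c * m.choose j) := by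
        refine Nat.eq_of_mul_eq_mul_right (Nat.succ_pos j) ?_
        have h2 := Nat.add_one_mul_choose_eq m j
        rw [hm, ← h2, ← hm, hc, Nat.succ_eq_add_one]
        ring
      rw [e, pow_succ, one_pow, mul_one]
      push_cast
      linear_combination (u ^ j * c * m.choose j) * ha
  · simp

end Elementary

variable {S : Type u} [CommRing S] {B : Type u} [CommRing B] [Bialgebra S B]
  {M : Type u} [AddCommGroup M] {g : M → B}

theorem eq_one_of_unit [IsLocalRing S] (hgl : ∀ m, IsGroupLikeElem S (g m))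
    (hspan : Submodule.span S (Set.range g) = ⊤) [Algebra.FiniteType S B] {n : ℕ} (hn : IsUnit (n : S))
    (φ : B →ₐ[S] B) (hφ : ∀ m, φ (g m) = g m ^ n)
    (hnil : ∀ m, IsNilpotent (g m ^ n - 1))
    (hm : ∀ m, g m ^ n - 1 ∈ (IsLocalRing.maximalIdeal S).map (algebraMap S B)) (m : M) : g m ^ n = 1 := by
  classical
  set ε := Bialgebra.counitAlgHom S B
  set I : Ideal B := RingHom.ker ε
  have hε : ∀ m, ε (g m) = 1 := fun m => (hgl m).counit_eq_one
  have hI1 : ∀ m, g m - 1 ∈ I := fun m => by rw [RingHom.mem_ker, map_sub, hε, map_one, sub_self]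
  have hIspan : I = Ideal.span (Set.range fun m => g m - 1) := by
    refine le_antisymm (fun b hb => ?_) (Ideal.span_le.2 (Set.range_subset_iff.2 hI1))
    have hb' : b ∈ Submodule.span S (Set.range g) := by simp [hspan]
    obtain ⟨c, rfl⟩ := (Finsupp.mem_span_range_iff_exists_finsupp).1 hb'
    rw [RingHom.mem_ker, map_finsuppSum] at hb
    have h0 : (c.sum fun _ a => a) = 0 := by simpa [hε] using hb
    have : (c.sum fun m a => a • g m) = c.sum fun m a => a • (g m - 1) := by
      simp only [smul_sub, Finsupp.sum, Finset.sum_sub_distrib]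
      rw [← Finset.sum_smul, show ∑ x ∈ c.support, c x = 0 from h0, zero_smul, sub_zero]
    rw [this]
    refine Submodule.sum_mem _ fun m _ => ?_
    show c m • (g m - 1) ∈ _
    rw [Algebra.smul_def]
    exact Ideal.mul_mem_left _ _ (Ideal.subset_span ⟨m, rfl⟩)
  set 𝔫 : Ideal B := (IsLocalRing.maximalIdeal S).map (algebraMap S B)
  have hε𝔫 : ∀ b ∈ 𝔫, ε b ∈ IsLocalRing.maximalIdeal S := fun b hb =>
    (Ideal.map_le_iff_le_comap.2 fun r hr => by simpa using hr :
      𝔫 ≤ (IsLocalRing.maximalIdeal S).comap ε) hb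
  -- `b ∈ 𝔫 ∩ I` lies in `𝔫 * I`
  have hinter : ∀ b ∈ 𝔫, b - algebraMap S B (ε b) ∈ 𝔫 * I := by
    intro b hb
    induction hb using Submodule.span_induction with
    | mem x hx =>
      obtain ⟨r, hr, rfl⟩ := hx
      simp
    | zero => simp
    | add x y _ _ hx hy =>
      rw [map_add, map_add, add_sub_add_comm]
      exact add_mem hx hy
    | smul c x hx ih =>
      have e : c • x - algebraMap S B (ε (c • x)) =
          algebraMap S B (ε c) * (x - algebraMap S B (ε x)) + x * (c - algebraMap S B (ε c)) := by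
        simp only [smul_eq_mul, map_mul]
        ring
      rw [e]
      refine add_mem (Ideal.mul_mem_left _ _ ih) (Ideal.mul_mem_mul hx ?_)
      simp [I, RingHom.mem_ker]
  have hle : I ≤ (𝔫 + I) • I := by
    conv_lhs => rw [hIspan]
    rw [Ideal.span_le, smul_eq_mul, Submodule.add_eq_sup, Ideal.sup_mul]
    rintro _ ⟨m, rfl⟩
    have h1 : g m ^ n - 1 ∈ 𝔫 * I := by
      have := hinter _ (hm m)
      rwa [map_sub, map_pow, hε, one_pow, map_one, sub_self, map_zero, sub_zero] at this
    have h2 := pow_sub_one_mem_sq (hI1 m) n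
    obtain ⟨v, hv⟩ := hn
    have e : g m - 1 = algebraMap S B (↑v⁻¹ : S) * ((g m ^ n - 1) - (g m ^ n - 1 - n * (g m - 1))) := by
      have : algebraMap S B (↑v⁻¹ : S) * (n : B) = 1 := by
        rw [show (n : B) = algebraMap S B (v : S) by rw [hv, map_natCast], ← map_mul, Units.inv_mul, map_one]
      linear_combination -(g m - 1) * this
    show g m - 1 ∈ 𝔫 * I ⊔ I * I
    rw [e]
    exact Ideal.mul_mem_left _ _ (sub_mem (Ideal.mem_sup_left h1) (Ideal.mem_sup_right h2))
  have hfg : I.FG := by
    obtain ⟨s, hs⟩ := ‹Algebra.FiniteType S B›.out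
    refine ⟨s.image fun b => b - algebraMap S B (ε b), le_antisymm (Ideal.span_le.2 ?_) fun b hb => ?_⟩
    · intro x hx
      obtain ⟨y, -, rfl⟩ := Finset.mem_image.1 hx
      simp [I, RingHom.mem_ker]
    · set Is := Ideal.span (↑(s.image fun b => b - algebraMap S B (ε b)) : Set B)
      have key : (Ideal.Quotient.mkₐ S Is) = (Algebra.ofId S (B ⧸ Is)).comp ε := by
        refine AlgHom.ext_of_adjoin_eq_top hs fun x hx => ?_
        show Ideal.Quotient.mk Is x = Ideal.Quotient.mk Is (algebraMap S B (ε x))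
        exact Ideal.Quotient.eq.2 (Ideal.subset_span (Finset.mem_image_of_mem _ hx))
      have := DFunLike.congr_fun key b
      rw [AlgHom.comp_apply, show ε b = 0 from hb, map_zero] at this
      exact Ideal.Quotient.eq_zero_iff_mem.1 this
  obtain ⟨r, hr, hri⟩ := Submodule.exists_mem_and_smul_eq_self_of_fg_of_le_smul (𝔫 + I) I hfg hle
  have hφI : ∀ b ∈ I, IsNilpotent (φ b) := by
    intro b hb
    rw [hIspan] at hb
    exact mem_nilradical.1 ((Ideal.span_le.2 (Set.range_subset_iff.2 fun m => mem_nilradical.2 (by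
      rw [map_sub, map_one, hφ]; exact hnil m)) : _ ≤ (nilradical B).comap φ) hb)
  have hrm : ε r ∈ IsLocalRing.maximalIdeal S := by
    obtain ⟨a, ha, b, hb, rfl⟩ := Submodule.mem_sup.1 hr
    rw [map_add, show ε b = 0 from hb, add_zero]
    exact hε𝔫 a ha
  have hu : IsUnit (1 - φ r) := by
    have h1 : IsUnit (algebraMap S B (1 - ε r)) :=
      (IsLocalRing.isUnit_one_sub_self_of_mem_nonunits _ hrm).map _
    have e : 1 - φ r = -(φ (r - algebraMap S B (ε r))) + algebraMap S B (1 - ε r) := by
      rw [map_sub, map_sub, AlgHom.commutes, map_one]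
      ring
    rw [e]
    exact IsNilpotent.isUnit_add_right_of_commute (hφI _ (by simp [I, RingHom.mem_ker])).neg h1 (Commute.all _ _)
  have h := congrArg φ (hri _ (hI1 m))
  rw [smul_eq_mul, map_mul] at h
  have h0 : (1 - φ r) * φ (g m - 1) = 0 := by linear_combination -h
  rw [hu.mul_right_eq_zero, map_sub, map_one, hφ, sub_eq_zero] at h0
  exact h0

/-- In a field fibre, a group-like element with a dependence among its powers modulo the maximal ideal has bounded
order. -/
theorem fibre_pow_eq_one [IsLocalRing S] (hgl : ∀ m, IsGroupLikeElem S (g m)) (g0 : g 0 = 1)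
    (gadd : ∀ a b, g (a + b) = g a * g b) {d : ℕ}
    (hdep : ∀ m : M, ∃ c : Fin (d + 1) → S, (∃ i, IsUnit (c i)) ∧
      ∑ i, c i • g ((i : ℕ) • m) ∈ IsLocalRing.maximalIdeal S • Submodule.span S (Set.range g))
    (p : Ideal S) [p.IsPrime] (m : M) :
    ((1 : p.ResidueField) ⊗ₜ[S] g m) ^ d.factorial = 1 := by
  classical
  let h : M → p.ResidueField ⊗[S] B := fun m => (1 : p.ResidueField) ⊗ₜ[S] g m
  have hgh : ∀ m, IsGroupLikeElem p.ResidueField (h m) := fun m => by
    constructor
    · simp [h, TensorProduct.counit_tmul, (hgl m).counit_eq_one]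
    · simp [h, TensorProduct.comul_tmul, (hgl m).comul_eq_tmul_self]
  have hpow : ∀ (k : ℕ) (m : M), g (k • m) = g m ^ k := fun k m => by
    induction k with
    | zero => rw [zero_nsmul, g0, pow_zero]
    | succ k ih => rw [succ_nsmul, gadd, ih, pow_succ]
  have hne : ¬ Function.Injective fun i : Fin (d + 1) => h ((i : ℕ) • m) := by
    intro hinj
    obtain ⟨c, ⟨i₀, hi₀⟩, hc⟩ := hdep m
    obtain ⟨a, ha, hac⟩ := (Submodule.mem_ideal_smul_span_iff_exists_sum _ g _).1 hc
    have hli : LinearIndependent p.ResidueField (fun x : Set.range h => (x : p.ResidueField ⊗[S] B)) :=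
      linearIndepOn_isGroupLikeElem.linearIndependent.comp
        (fun x : Set.range h => (⟨x.1, by obtain ⟨y, hy⟩ := x.2; exact hy ▸ hgh y⟩ :
          {a : p.ResidueField ⊗[S] B | IsGroupLikeElem p.ResidueField a}))
        fun x y hxy => Subtype.ext (congrArg Subtype.val hxy : _)
    let q : M → Set.range h := fun m => ⟨h m, m, rfl⟩
    let μ := algebraMap S p.ResidueField
    have hlin : ∀ (s : S) (x : M), (1 : p.ResidueField) ⊗ₜ[S] (s • g x) = μ s • h x := fun s x => by
      rw [TensorProduct.tmul_smul, algebraMap_smul]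
    let F : Set.range h →₀ p.ResidueField :=
      (∑ i : Fin (d + 1), Finsupp.single (q ((i : ℕ) • m)) (μ (c i))) - a.sum fun x s => Finsupp.single (q x) (μ s)
    have hF : Finsupp.linearCombination p.ResidueField (fun x : Set.range h => (x : p.ResidueField ⊗[S] B)) F = 0 := by
      simp only [F, map_sub, map_sum, map_finsuppSum, Finsupp.linearCombination_single, q, sub_eq_zero]
      have := congrArg (fun z => (1 : p.ResidueField) ⊗ₜ[S] z) hac.symm
      simpa [TensorProduct.tmul_sum, Finsupp.sum, hlin] using this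
    have hF0 := DFunLike.congr_fun (linearIndependent_iff.1 hli F hF) (q ((i₀ : ℕ) • m))
    simp only [F, Finsupp.sub_apply, Finsupp.coe_finsetSum, Finset.sum_apply, Finsupp.sum, Finsupp.single_apply,
      Finsupp.zero_apply] at hF0
    rw [Finset.sum_eq_single i₀ (fun i _ hi => if_neg fun e => hi (hinj (congrArg Subtype.val e : _)))
      (fun h => absurd (Finset.mem_univ _) h), if_pos rfl, sub_eq_zero] at hF0
    rw [← Finset.sum_filter, ← map_sum] at hF0
    have h1 : c i₀ - ∑ x ∈ a.support with q x = q ((i₀ : ℕ) • m), a x ∈ p := by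
      rw [← Ideal.algebraMap_residueField_eq_zero, map_sub, sub_eq_zero]
      exact hF0
    have h2 := add_mem (IsLocalRing.le_maximalIdeal ‹p.IsPrime›.ne_top h1)
      (Submodule.sum_mem _ fun x (_ : x ∈ a.support.filter fun x => q x = q ((i₀ : ℕ) • m)) => ha x)
    rw [sub_add_cancel] at h2
    exact h2 hi₀
  simp only [Function.Injective, not_forall] at hne
  obtain ⟨i, j, hij, hne⟩ := hne
  wlog hlt : (i : ℕ) < j generalizing i j
  · exact this j i hij.symm (Ne.symm hne) (lt_of_le_of_ne (not_lt.1 hlt) fun e => hne (Fin.ext e.symm))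
  have hu : IsUnit (h m) := IsUnit.of_mul_eq_one (h (-m)) (by
    show (1 : p.ResidueField) ⊗ₜ[S] g m * (1 : p.ResidueField) ⊗ₜ[S] g (-m) = 1
    rw [Algebra.TensorProduct.tmul_mul_tmul, ← gadd, add_neg_cancel, g0, _root_.one_mul]; rfl)
  have hhp : ∀ k : ℕ, h (k • m) = h m ^ k := fun k => by
    simp [h, hpow, Algebra.TensorProduct.tmul_pow]
  have hji : h m ^ ((j : ℕ) - i) = 1 := by
    refine (hu.pow (i : ℕ)).mul_left_cancel ?_
    rw [mul_one, ← pow_add, Nat.add_sub_cancel' hlt.le, ← hhp, ← hhp]
    exact hij.symm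
  obtain ⟨k, hk⟩ : (j : ℕ) - i ∣ d.factorial := Nat.dvd_factorial (by omega) (by omega)
  show h m ^ d.factorial = 1
  rw [hk, pow_mul, hji, one_pow]

theorem exists_pow_eq_one_all [IsLocalRing S] (hgl : ∀ m, IsGroupLikeElem S (g m)) (g0 : g 0 = 1)
    (gadd : ∀ a b, g (a + b) = g a * g b) (hspan : Submodule.span S (Set.range g) = ⊤) [Algebra.FiniteType S B]
    [AddGroup.FG M] {d : ℕ}
    (hdep : ∀ m : M, ∃ c : Fin (d + 1) → S, (∃ i, IsUnit (c i)) ∧
      ∑ i, c i • g ((i : ℕ) • m) ∈ IsLocalRing.maximalIdeal S • Submodule.span S (Set.range g))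
    (φ : B →ₐ[S] B) (hφ : ∀ m, φ (g m) = g m ^ d.factorial) :
    ∃ n, 0 < n ∧ ∀ m, g m ^ n = 1 := by
  classical
  let n := d.factorial
  have hfib := fibre_pow_eq_one hgl g0 gadd hdep
  have hnil : ∀ m, IsNilpotent (g m ^ n - 1) := fun m => by
    rw [nilpotent_iff_mem_prime]
    intro P hP
    let p := P.comap (algebraMap S B)
    haveI : p.IsPrime := Ideal.IsPrime.comap _
    let f : p.ResidueField →ₐ[S] P.ResidueField := Ideal.ResidueField.mapₐ p P (Algebra.ofId S B) rfl
    let L : p.ResidueField ⊗[S] B →ₐ[S] P.ResidueField :=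
      Algebra.TensorProduct.lift f (IsScalarTower.toAlgHom S B _) fun _ _ => Commute.all _ _
    have h := congrArg L (hfib p m)
    rw [map_pow, map_one, Algebra.TensorProduct.lift_tmul, map_one, _root_.one_mul] at h
    rw [← Ideal.algebraMap_residueField_eq_zero, map_sub, map_pow, map_one, sub_eq_zero]
    exact h
  have hkill : ∀ m, ∃ a : ℕ, (n : B) ^ a * (g m ^ n - 1) = 0 := by
    intro m
    let 𝔞 := Submodule.colon (⊥ : Submodule S B) {g m ^ n - 1}
    have hmem : ∀ s : S, s ∈ 𝔞 ↔ s • (g m ^ n - 1) = 0 := fun s => by simp [𝔞, Submodule.mem_colon]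
    suffices h : (n : S) ∈ 𝔞.radical by
      obtain ⟨a, ha⟩ := h
      exact ⟨a, by simpa [Algebra.smul_def] using (hmem _).1 ha⟩
    rw [Ideal.radical_eq_sInf, Submodule.mem_sInf]
    intro (q : Ideal S) ⟨hq, hqp⟩
    haveI := hqp
    by_contra hn
    let T := Localization.AtPrime q
    let gT : M → T ⊗[S] B := fun m => (1 : T) ⊗ₜ[S] g m
    have hglT : ∀ m, IsGroupLikeElem T (gT m) := fun m => by
      constructor
      · simp [gT, TensorProduct.counit_tmul, (hgl m).counit_eq_one]
      · simp [gT, TensorProduct.comul_tmul, (hgl m).comul_eq_tmul_self]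
    have hspanT : Submodule.span T (Set.range gT) = ⊤ := by
      have := Submodule.baseChange_top (A := T) (R := S) (M := B)
      rw [← hspan, Submodule.baseChange_span, ← Set.range_comp] at this
      exact this
    have hmT : ∀ m, gT m ^ n - 1 ∈ (IsLocalRing.maximalIdeal T).map (algebraMap T (T ⊗[S] B)) := by
      intro m
      have hk : (IsLocalRing.maximalIdeal T).map (algebraMap T (T ⊗[S] B)) =
          RingHom.ker (Algebra.TensorProduct.map (IsScalarTower.toAlgHom S T q.ResidueField) (AlgHom.id S B)) := by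
        rw [Algebra.TensorProduct.rTensor_ker (f := IsScalarTower.toAlgHom S T q.ResidueField) IsLocalRing.residue_surjective,
          show RingHom.ker (IsScalarTower.toAlgHom S T q.ResidueField) = IsLocalRing.maximalIdeal T from
            IsLocalRing.ker_residue]
        rfl
      rw [hk, RingHom.mem_ker, map_sub, map_pow, map_one, Algebra.TensorProduct.map_tmul, map_one, sub_eq_zero]
      exact hfib q m
    have hnilT : ∀ m, IsNilpotent (gT m ^ n - 1) := fun m => by
      have := (hnil m).map (Algebra.TensorProduct.includeRight : B →ₐ[S] T ⊗[S] B)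
      rw [map_sub, map_pow, map_one] at this
      exact this
    have hnT : IsUnit (n : T) := by
      simpa using IsLocalization.map_units T (⟨(n : S), hn⟩ : q.primeCompl)
    have h0 := eq_one_of_unit hglT hspanT hnT (Algebra.TensorProduct.map (AlgHom.id T T) φ)
      (fun m => by
        show Algebra.TensorProduct.map (AlgHom.id T T) φ ((1 : T) ⊗ₜ[S] g m) = _
        rw [Algebra.TensorProduct.map_tmul, AlgHom.id_apply, hφ]
        exact map_pow (Algebra.TensorProduct.includeRight : B →ₐ[S] T ⊗[S] B) (g m) n) hnilT hmT m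
    have h1 : TensorProduct.mk S T B 1 (g m ^ n - 1) = 0 := by
      show (Algebra.TensorProduct.includeRight : B →ₐ[S] T ⊗[S] B) (g m ^ n - 1) = 0
      rw [map_sub, map_pow, map_one, sub_eq_zero]
      exact h0
    haveI : IsLocalizedModule q.primeCompl (TensorProduct.mk S T B 1) :=
      (isLocalizedModule_iff_isBaseChange q.primeCompl T _).2 (TensorProduct.isBaseChange S B T)
    obtain ⟨s, hs⟩ := (IsLocalizedModule.eq_zero_iff q.primeCompl (TensorProduct.mk S T B 1)).1 h1
    exact s.2 (hq ((hmem _).2 hs))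
  have hone : ∀ m, ∃ k, 0 < k ∧ g m ^ k = 1 := fun m => by
    obtain ⟨a, ha⟩ := hkill m
    obtain ⟨k, hk, hk1⟩ := exists_pow_eq_one d.factorial_pos (hnil m) ha
    refine ⟨n * k, Nat.mul_pos d.factorial_pos hk, ?_⟩
    rw [pow_mul]
    simpa using hk1
  choose k hk hk1 using hone
  obtain ⟨s, hs⟩ := (AddGroup.fg_def.1 ‹AddGroup.FG M›)
  refine ⟨∏ x ∈ s, k x, Finset.prod_pos fun x _ => hk x, fun m => ?_⟩
  have hm : m ∈ AddSubgroup.closure (s : Set M) := by simp [hs]
  induction hm using AddSubgroup.closure_induction with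
  | mem x hx =>
    obtain ⟨c, hc⟩ := Finset.dvd_prod_of_mem k hx
    rw [hc, pow_mul, hk1, one_pow]
  | zero => rw [g0, one_pow]
  | add x y _ _ hx hy => rw [gadd, mul_pow, hx, hy, _root_.mul_one]
  | neg x _ hx =>
    have e := gadd (-x) x
    rw [neg_add_cancel, g0] at e
    have := congrArg (· ^ ∏ x ∈ s, k x) e
    simp only [one_pow, mul_pow, hx, _root_.mul_one] at this
    exact this.symm

end Groth.Agent.MultFin
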